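import Mathlib
import Cfsg.Agent.Characters.Core
import Cfsg.Agent.Characters.Values
import Cfsg.Agent.PermChar.SymAlt
import Cfsg.Agent.H686.CharKit
import Cfsg.Agent.S0887

/-!
# The Tits group: the numbers of the characters (helper757, S4819, S4820)

`TG G` : the facts on the elements of orders 3, 5, 10, 13 which are used; `data` : the numbers of `TitsArith.Data`.
-/

set_option autoImplicit false
set_option linter.unusedSectionVars false
set_option linter.unusedSimpArgs false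

/-!
# The Tits group: arithmetic of the character degrees (helper757, S4819, S4820)

Each irreducible character of the Tits group has the numbers `d` (degree), `a`, `s`, `x`, `b` (values at elements of
the orders 5, 3, 13 (sum over the two classes), 10). Congruences and the orthogonality relations determine the degrees
which are not divisible by 25.
-/

section

namespace Cfsg.Agent.H757.TI.TitsArith

/-- balanced residues -/
def fa (d : ℕ) : ℤ := ((d + 12) % 25 : ℕ) - 12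
/-- balanced residues -/
def fs (d : ℕ) : ℤ := ((d + 13) % 27 : ℕ) - 13
/-- balanced residues -/
def fx (d : ℕ) : ℤ := ((2 * d + 6) % 13 : ℕ) - 6

/-- the numbers of the characters -/
structure Data (I : Type*) [Fintype I] where
  d : I → ℕ
  a : I → ℤ
  s : I → ℤ
  x : I → ℤ
  b : I → ℤ
  hd : ∀ i, d i ∣ 17971200
  ha : ∀ i, (25 : ℤ) ∣ d i - a i
  hs : ∀ i, (27 : ℤ) ∣ d i - s i
  hx : ∀ i, (13 : ℤ) ∣ 2 * d i - x i
  hb : ∀ i, (2 : ℤ) ∣ a i - b i
  pa : ∀ i, 0 ≤ d i + 24 * a i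
  ps : ∀ i, 0 ≤ d i + 26 * s i
  px : ∀ i, 0 ≤ d i + 6 * x i
  dd : ∑ i, (d i : ℤ) ^ 2 = 17971200
  aa : ∑ i, a i ^ 2 = 50
  ss : ∑ i, s i ^ 2 = 108
  xx : ∑ i, x i ^ 2 = 26
  bb : ∑ i, b i ^ 2 = 10
  xd : ∑ i, x i * d i = 0
  xa : ∑ i, x i * a i = 0
  xs : ∑ i, x i * s i = 0
  as : ∑ i, a i * s i = 0

/-- the degrees which could occur -/
def L : List ℕ := [1, 26, 27, 52, 78, 104, 130, 195, 300, 320, 325, 351, 480, 520, 624, 650, 675, 702, 780, 975, 1080,
  1248, 1300, 1404, 1600, 1728, 1755, 1950, 2048, 2080, 2400, 2600]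

/-- the test -/
def chk (t : ℕ) : Bool :=
  decide ((t : ℤ) ^ 2 ≤ 9120153) && decide (fa t ^ 2 ≤ 28) && decide (fs t ^ 2 ≤ 66) && decide (fx t ^ 2 ≤ 12) &&
    decide (0 ≤ t + 24 * fa t) && decide (0 ≤ t + 26 * fs t) && decide (0 ≤ t + 6 * fx t)

theorem list_aux : ∀ i : Fin 12, ∀ j : Fin 4, ∀ k : Fin 3, ∀ l : Fin 2,
    chk (2 ^ (i : ℕ) * 3 ^ (j : ℕ) * 5 ^ (k : ℕ) * 13 ^ (l : ℕ)) = true →
      2 ^ (i : ℕ) * 3 ^ (j : ℕ) * 5 ^ (k : ℕ) * 13 ^ (l : ℕ) ∈ L := by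
  decide +kernel

theorem exists_fac {d : ℕ} (h : d ∣ 17971200) : ∃ i < 12, ∃ j < 4, ∃ k < 3, ∃ l < 2,
    d = 2 ^ i * 3 ^ j * 5 ^ k * 13 ^ l := by
  have e : (17971200 : ℕ) = 2 ^ 11 * (3 ^ 3 * (5 ^ 2 * 13 ^ 1)) := by norm_num
  rw [e] at h
  obtain ⟨a, h1, ha, hh1, rfl⟩ := (Nat.dvd_mul).1 h
  obtain ⟨b, h2, hb, hh2, rfl⟩ := (Nat.dvd_mul).1 hh1
  obtain ⟨c, f, hc, hf, rfl⟩ := (Nat.dvd_mul).1 hh2
  obtain ⟨i, hi, rfl⟩ := (Nat.dvd_prime_pow Nat.prime_two).1 ha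
  obtain ⟨j, hj, rfl⟩ := (Nat.dvd_prime_pow Nat.prime_three).1 hb
  obtain ⟨k, hk, rfl⟩ := (Nat.dvd_prime_pow (by norm_num)).1 hc
  obtain ⟨l, hl, rfl⟩ := (Nat.dvd_prime_pow (by norm_num)).1 hf
  exact ⟨i, by omega, j, by omega, k, by omega, l, by omega, by ring⟩

theorem xpart1 {n27 n300 n320 n480 n675 n1080 n1600 n1728 n2048 n2400 : ℕ}
    (e4 : 4 + 4 * n27 + 4 * n300 + 9 * n320 + 4 * n480 + 4 * n675 + 4 * n1080 + 4 * n1600 + 4 * n1728 + n2048 +
      9 * n2400 = 26) (g2 : 2 ≤ n2048) (g3 : n2048 ≤ 3) :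
    n320 = 0 ∧ n2400 = 0 ∧ n2048 = 2 ∧ n27 + n300 + n480 + n675 + n1080 + n1600 + n1728 = 5 := by
  obtain ⟨M, hM⟩ : ∃ M, M = n27 + n300 + n480 + n675 + n1080 + n1600 + n1728 := ⟨_, rfl⟩
  obtain ⟨m, hm⟩ : ∃ m, m = n320 + n2400 := ⟨_, rfl⟩
  have h1 : 4 + 4 * M + 9 * m + n2048 = 26 := by omega
  clear e4
  have h2 : m ≤ 2 := by omega
  have h3 : m = 0 ∧ n2048 = 2 ∧ M = 5 := by
    interval_cases m <;> interval_cases n2048 <;> omega
  omega

/-- the characters which do not vanish at the elements of order 13 -/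
theorem xpart {n1 n27 n300 n320 n480 n675 n1080 n1600 n1728 n2048 n2400 : ℕ} (h1 : n1 = 1)
    (e4 :
      4 * (n1 : ℤ) + 4 * (n27 : ℤ) + 4 * (n300 : ℤ) + 9 * (n320 : ℤ) + 4 * (n480 : ℤ) + 4 * (n675 : ℤ) +
      4 * (n1080 : ℤ) + 4 * (n1600 : ℤ) + 4 * (n1728 : ℤ) + 1 * (n2048 : ℤ) + 9 * (n2400 : ℤ) = 26)
    (e5 :
      2 * (n1 : ℤ) + 54 * (n27 : ℤ) + 600 * (n300 : ℤ) + 960 * (n320 : ℤ) + (-960) * (n480 : ℤ) +
      (-1350) * (n675 : ℤ) + 2160 * (n1080 : ℤ) + 3200 * (n1600 : ℤ) + (-3456) * (n1728 : ℤ) + 2048 * (n2048 : ℤ) +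
      7200 * (n2400 : ℤ) = 0)
    (e6 :
      2 * (n1 : ℤ) + 4 * (n27 : ℤ) + (-15) * (n320 : ℤ) + (-10) * (n480 : ℤ) + 10 * (n1080 : ℤ) + (-6) * (n1728 : ℤ) +
      (-2) * (n2048 : ℤ) = 0)
    (e7 :
      2 * (n1 : ℤ) + 6 * (n300 : ℤ) + (-12) * (n320 : ℤ) + 12 * (n480 : ℤ) + 14 * (n1600 : ℤ) + (-4) * (n2048 : ℤ) +
      (-9) * (n2400 : ℤ) = 0)
    (g27 : 1 ≤ n27) (g675 : 1 ≤ n675) (g2 : 2 ≤ n2048) (g3 : n2048 ≤ 3) :
    n27 = 2 ∧ n300 = 1 ∧ n1728 = 1 ∧ n2048 = 2 ∧ n675 = 1 ∧ n320 = 0 ∧ n480 = 0 ∧ n1080 = 0 ∧ n1600 = 0 ∧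
      n2400 = 0 := by
  subst h1
  obtain ⟨rfl, rfl, rfl, a2⟩ := xpart1 (n27 := n27) (n300 := n300) (n320 := n320) (n480 := n480) (n675 := n675)
    (n1080 := n1080) (n1600 := n1600) (n1728 := n1728) (n2048 := n2048) (n2400 := n2400)
    (by push_cast at e4; zify; linarith) g2 g3
  clear e4
  have a3 : 3 * n300 + 6 * n480 + 7 * n1600 = 3 := by push_cast at e7; zify; linarith
  have a4 : n300 = 1 ∧ n480 = 0 ∧ n1600 = 0 := by clear e5 e6 e7; omega
  obtain ⟨rfl, rfl, rfl⟩ := a4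
  have a5 : 2 * n27 + 5 * n1080 = 1 + 3 * n1728 := by push_cast at e6; zify; linarith
  clear e5 e6 e7
  have a6 : n27 = 2 ∧ n1728 = 1 ∧ n675 = 1 ∧ n1080 = 0 := by omega
  obtain ⟨rfl, rfl, rfl, rfl⟩ := a6
  simp

/-- the other characters -/
theorem apart {n26 n52 n78 n104 n130 n195 n351 n520 n624 n702 n780 n1248 n1404 n1755 n2080 : ℕ}
    (e2 : n26 + 4 * n52 + 9 * n78 + 16 * n104 + 25 * (n130 + n195 + n520 + n780 + n1755 + n2080) + n351 + n624 +
      4 * n702 + 4 * n1248 + 16 * n1404 = 24)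
    (e8 : n26 + 4 * n52 + 9 * n78 + 16 * n104 + 25 * n130 + 30 * n195 + 35 * n520 + 3 * n624 + 15 * n780 +
      12 * n1248 = 17 + 5 * n2080)
    (e9 : n26 + n78 + n351 + n624 ≤ 8) (g78 : 1 ≤ n78) (h : 2 ≤ n624 ∨ 1 ≤ n1248) :
    (n26 = 2 ∧ n52 = 0 ∧ n78 = 1 ∧ n104 = 0 ∧ n351 = 3 ∧ n624 = 2 ∧ n702 = 2 ∧ n1248 = 0 ∧ n1404 = 0) ∧
      n130 + n195 + n520 + n780 + n1755 + n2080 = 0 := by
  obtain ⟨M, hM⟩ : ∃ M, M = n130 + n195 + n520 + n780 + n1755 + n2080 := ⟨_, rfl⟩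
  rw [← hM] at e2 ⊢
  have h0 : M = 0 := by omega
  subst h0
  have z : n130 = 0 ∧ n195 = 0 ∧ n520 = 0 ∧ n780 = 0 ∧ n1755 = 0 ∧ n2080 = 0 := by omega
  obtain ⟨rfl, rfl, rfl, rfl, rfl, rfl⟩ := z
  clear hM
  have h1 : n1248 = 0 := by omega
  subst h1
  have h2 : 2 ≤ n624 := by omega
  have h3 : n78 = 1 := by omega
  subst h3
  have h4 : n624 = 2 := by omega
  subst h4
  have h5 : n104 = 0 ∧ n52 = 0 ∧ n26 = 2 := by omega
  obtain ⟨rfl, rfl, rfl⟩ := h5
  have h6 : n1404 = 0 := by omega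
  subst h6
  have h7 : n351 + 4 * n702 = 11 := by omega
  have h8 : n351 ≤ 3 := by omega
  omega

namespace Data

variable {I : Type*} [Fintype I] [DecidableEq I] (D : Data I)

include D

theorem sq_le {f : I → ℤ} {M : ℤ} (h : ∑ i, f i ^ 2 = M) (i : I) : f i ^ 2 ≤ M := by
  rw [← h]
  exact Finset.single_le_sum (f := fun i => f i ^ 2) (fun _ _ => sq_nonneg _) (Finset.mem_univ i)

theorem a_eq (i : I) : D.a i = fa (D.d i) := by
  have h1 := D.ha i
  have h2 := sq_le D D.aa i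
  have h3 : D.a i ≤ 7 := by nlinarith
  have h4 : -7 ≤ D.a i := by nlinarith
  unfold fa
  omega

theorem s_eq (i : I) : D.s i = fs (D.d i) := by
  have h1 := D.hs i
  have h2 := sq_le D D.ss i
  have h3 : D.s i ≤ 10 := by nlinarith
  have h4 : -10 ≤ D.s i := by nlinarith
  unfold fs
  omega

theorem x_eq (i : I) : D.x i = fx (D.d i) := by
  have h1 := D.hx i
  have h2 := sq_le D D.xx i
  have h3 : D.x i ≤ 5 := by nlinarith
  have h4 : -5 ≤ D.x i := by nlinarith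
  unfold fx
  omega

/-- the number of characters of degree `t` -/
def n (t : ℕ) : ℕ := (Finset.univ.filter fun i => D.d i = t).card

/-- bound for a further member -/
theorem bound {f : ℕ → ℤ} (hf : ∀ t, 0 ≤ f t) {M : ℤ} (h : ∑ i, f (D.d i) = M) {K : Finset I} {i : I} (hi : i ∉ K) :
    f (D.d i) ≤ M - ∑ j ∈ K, f (D.d j) := by
  have h1 : ∑ j ∈ insert i K, f (D.d j) ≤ ∑ j, f (D.d j) :=
    Finset.sum_le_sum_of_subset_of_nonneg (Finset.subset_univ _) fun _ _ _ => hf _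
  rw [Finset.sum_insert hi, h] at h1
  linarith

theorem mem_L {i1 i27 i675 j1 j2 i78 : I} (h1 : D.d i1 = 1) (h27 : D.d i27 = 27) (h675 : D.d i675 = 675)
    (hj1 : D.d j1 = 2048) (hj2 : D.d j2 = 2048) (hj : j1 ≠ j2) (h78 : D.d i78 = 78) (i : I) : D.d i ∈ L := by
  have hne : ∀ {i j : I}, D.d i ≠ D.d j → i ≠ j := fun h e => h (by rw [e])
  set K : Finset I := {i1, i27, i675, j1, j2, i78} with hK
  have hsum : ∀ f : ℕ → ℤ, ∑ j ∈ K, f (D.d j) = f 1 + f 27 + f 675 + f 2048 + f 2048 + f 78 := by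
    intro f
    have e1 : i1 ∉ ({i27, i675, j1, j2, i78} : Finset I) := by
      simp only [Finset.mem_insert, Finset.mem_singleton, not_or]
      refine ⟨hne ?_, hne ?_, hne ?_, hne ?_, hne ?_⟩ <;> simp only [h1, h27, h675, hj1, hj2, h78] <;> decide
    have e2 : i27 ∉ ({i675, j1, j2, i78} : Finset I) := by
      simp only [Finset.mem_insert, Finset.mem_singleton, not_or]
      refine ⟨hne ?_, hne ?_, hne ?_, hne ?_⟩ <;> simp only [h1, h27, h675, hj1, hj2, h78] <;> decide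
    have e3 : i675 ∉ ({j1, j2, i78} : Finset I) := by
      simp only [Finset.mem_insert, Finset.mem_singleton, not_or]
      refine ⟨hne ?_, hne ?_, hne ?_⟩ <;> simp only [h1, h27, h675, hj1, hj2, h78] <;> decide
    have e4 : j1 ∉ ({j2, i78} : Finset I) := by
      simp only [Finset.mem_insert, Finset.mem_singleton, not_or]
      refine ⟨hj, hne ?_⟩
      simp only [h1, h27, h675, hj1, hj2, h78]
      decide
    have e5 : j2 ∉ ({i78} : Finset I) := by
      simp only [Finset.mem_singleton]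
      refine hne ?_
      simp only [h1, h27, h675, hj1, hj2, h78]
      decide
    rw [hK, Finset.sum_insert e1, Finset.sum_insert e2, Finset.sum_insert e3, Finset.sum_insert e4,
      Finset.sum_insert e5, Finset.sum_singleton, h1, h27, h675, hj1, hj2, h78]
    ring
  by_cases hi : i ∈ K
  · rw [hK] at hi
    simp only [Finset.mem_insert, Finset.mem_singleton] at hi
    rcases hi with rfl | rfl | rfl | rfl | rfl | rfl
    · rw [h1]; decide
    · rw [h27]; decide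
    · rw [h675]; decide
    · rw [hj1]; decide
    · rw [hj2]; decide
    · rw [h78]; decide
  · obtain ⟨p, hp, q, hq, r, hr, l, hl, he⟩ := exists_fac (D.hd i)
    have b1 := D.bound (f := fun t => (t : ℤ) ^ 2) (fun _ => sq_nonneg _) D.dd hi
    have b2 := D.bound (f := fun t => fa t ^ 2) (fun _ => sq_nonneg _)
      (M := 50)
      (by rw [← D.aa]; exact Finset.sum_congr rfl fun i _ => by rw [D.a_eq]) hi
    have b3 := D.bound (f := fun t => fs t ^ 2) (fun _ => sq_nonneg _)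
      (M := 108)
      (by rw [← D.ss]; exact Finset.sum_congr rfl fun i _ => by rw [D.s_eq]) hi
    have b4 := D.bound (f := fun t => fx t ^ 2) (fun _ => sq_nonneg _)
      (M := 26)
      (by rw [← D.xx]; exact Finset.sum_congr rfl fun i _ => by rw [D.x_eq]) hi
    rw [hsum fun t => (t : ℤ) ^ 2] at b1
    rw [hsum fun t => fa t ^ 2] at b2
    rw [hsum fun t => fs t ^ 2] at b3
    rw [hsum fun t => fx t ^ 2] at b4
    have c1 : (D.d i : ℤ) ^ 2 ≤ 9120153 := by norm_num at b1 ⊢; linarith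
    have c2 : fa (D.d i) ^ 2 ≤ 28 := le_trans b2 (by decide)
    have c3 : fs (D.d i) ^ 2 ≤ 66 := le_trans b3 (by decide)
    have c4 : fx (D.d i) ^ 2 ≤ 12 := le_trans b4 (by decide)
    have c5 := D.pa i
    have c6 := D.ps i
    have c7 := D.px i
    rw [D.a_eq] at c5
    rw [D.s_eq] at c6
    rw [D.x_eq] at c7
    rw [he] at c1 c2 c3 c4 c5 c6 c7 ⊢
    refine list_aux ⟨p, hp⟩ ⟨q, hq⟩ ⟨r, hr⟩ ⟨l, hl⟩ ?_
    unfold chk
    simp only [Bool.and_eq_true, decide_eq_true_eq]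
    exact ⟨⟨⟨⟨⟨⟨c1, c2⟩, c3⟩, c4⟩, c5⟩, c6⟩, c7⟩

theorem sum_eq (hL : ∀ i, D.d i ∈ L) (f : ℕ → ℤ) : ∑ i, f (D.d i) = (L.map fun t => (D.n t : ℤ) * f t).sum := by
  have h1 : ∑ i, f (D.d i) = ∑ t ∈ L.toFinset, (D.n t : ℤ) * f t := by
    rw [← Finset.sum_fiberwise_of_maps_to (s := Finset.univ) (t := L.toFinset) (g := D.d)
      (fun i _ => List.mem_toFinset.2 (hL i))]
    refine Finset.sum_congr rfl fun t _ => ?_
    rw [Finset.sum_congr rfl (g := fun _ => f t) (fun i hi => by rw [(Finset.mem_filter.1 hi).2]), Finset.sum_const,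
      nsmul_eq_mul]
    rfl
  rw [h1, List.sum_toFinset _ (by decide)]


theorem e_dd (hL : ∀ i, D.d i ∈ L) :
      1 * (D.n 1 : ℤ) + 676 * (D.n 26 : ℤ) + 729 * (D.n 27 : ℤ) + 2704 * (D.n 52 : ℤ) + 6084 * (D.n 78 : ℤ) +
      10816 * (D.n 104 : ℤ) + 16900 * (D.n 130 : ℤ) + 38025 * (D.n 195 : ℤ) + 90000 * (D.n 300 : ℤ) +
      102400 * (D.n 320 : ℤ) + 105625 * (D.n 325 : ℤ) + 123201 * (D.n 351 : ℤ) + 230400 * (D.n 480 : ℤ) +
      270400 * (D.n 520 : ℤ) + 389376 * (D.n 624 : ℤ) + 422500 * (D.n 650 : ℤ) + 455625 * (D.n 675 : ℤ) +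
      492804 * (D.n 702 : ℤ) + 608400 * (D.n 780 : ℤ) + 950625 * (D.n 975 : ℤ) + 1166400 * (D.n 1080 : ℤ) +
      1557504 * (D.n 1248 : ℤ) + 1690000 * (D.n 1300 : ℤ) + 1971216 * (D.n 1404 : ℤ) + 2560000 * (D.n 1600 : ℤ) +
      2985984 * (D.n 1728 : ℤ) + 3080025 * (D.n 1755 : ℤ) + 3802500 * (D.n 1950 : ℤ) + 4194304 * (D.n 2048 : ℤ) +
      4326400 * (D.n 2080 : ℤ) + 5760000 * (D.n 2400 : ℤ) + 6760000 * (D.n 2600 : ℤ) = 17971200 := by
  have h : ∑ i, (fun t : ℕ => (t : ℤ) ^ 2) (D.d i) = 17971200 := by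
    exact D.dd
  have h' := (D.sum_eq hL (fun t : ℕ => ((t : ℤ) ^ 2 : ℤ))).symm.trans h
  rw [← h']
  simp only [L, List.map_cons, List.map_nil, List.sum_cons, List.sum_nil]
  norm_num [fa, fs, fx]
  ring

theorem e_aa (hL : ∀ i, D.d i ∈ L) :
      1 * (D.n 1 : ℤ) + 1 * (D.n 26 : ℤ) + 4 * (D.n 27 : ℤ) + 4 * (D.n 52 : ℤ) + 9 * (D.n 78 : ℤ) +
      16 * (D.n 104 : ℤ) + 25 * (D.n 130 : ℤ) + 25 * (D.n 195 : ℤ) + 25 * (D.n 320 : ℤ) + 1 * (D.n 351 : ℤ) +
      25 * (D.n 480 : ℤ) + 25 * (D.n 520 : ℤ) + 1 * (D.n 624 : ℤ) + 4 * (D.n 702 : ℤ) + 25 * (D.n 780 : ℤ) +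
      25 * (D.n 1080 : ℤ) + 4 * (D.n 1248 : ℤ) + 16 * (D.n 1404 : ℤ) + 9 * (D.n 1728 : ℤ) + 25 * (D.n 1755 : ℤ) +
      4 * (D.n 2048 : ℤ) + 25 * (D.n 2080 : ℤ) = 50 := by
  have h : ∑ i, (fun t : ℕ => fa t ^ 2) (D.d i) = 50 := by
    rw [← D.aa]
    exact Finset.sum_congr rfl fun i _ => by rw [D.a_eq]
  have h' := (D.sum_eq hL (fun t : ℕ => (fa t ^ 2 : ℤ))).symm.trans h
  rw [← h']
  simp only [L, List.map_cons, List.map_nil, List.sum_cons, List.sum_nil]
  norm_num [fa, fs, fx]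
  ring

theorem e_xx (hL : ∀ i, D.d i ∈ L) :
      4 * (D.n 1 : ℤ) + 4 * (D.n 27 : ℤ) + 4 * (D.n 300 : ℤ) + 9 * (D.n 320 : ℤ) + 4 * (D.n 480 : ℤ) +
      4 * (D.n 675 : ℤ) + 4 * (D.n 1080 : ℤ) + 4 * (D.n 1600 : ℤ) + 4 * (D.n 1728 : ℤ) + 1 * (D.n 2048 : ℤ) +
      9 * (D.n 2400 : ℤ) = 26 := by
  have h : ∑ i, (fun t : ℕ => fx t ^ 2) (D.d i) = 26 := by
    rw [← D.xx]
    exact Finset.sum_congr rfl fun i _ => by rw [D.x_eq]
  have h' := (D.sum_eq hL (fun t : ℕ => (fx t ^ 2 : ℤ))).symm.trans h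
  rw [← h']
  simp only [L, List.map_cons, List.map_nil, List.sum_cons, List.sum_nil]
  norm_num [fa, fs, fx]
  ring

theorem e_xd (hL : ∀ i, D.d i ∈ L) :
      2 * (D.n 1 : ℤ) + 54 * (D.n 27 : ℤ) + 600 * (D.n 300 : ℤ) + 960 * (D.n 320 : ℤ) + (-960) * (D.n 480 : ℤ) +
      (-1350) * (D.n 675 : ℤ) + 2160 * (D.n 1080 : ℤ) + 3200 * (D.n 1600 : ℤ) + (-3456) * (D.n 1728 : ℤ) +
      2048 * (D.n 2048 : ℤ) + 7200 * (D.n 2400 : ℤ) = 0 := by
  have h : ∑ i, (fun t : ℕ => fx t * t) (D.d i) = 0 := by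
    rw [← D.xd]
    exact Finset.sum_congr rfl fun i _ => by rw [D.x_eq]
  have h' := (D.sum_eq hL (fun t : ℕ => (fx t * t : ℤ))).symm.trans h
  rw [← h']
  simp only [L, List.map_cons, List.map_nil, List.sum_cons, List.sum_nil]
  norm_num [fa, fs, fx]
  ring

theorem e_xa (hL : ∀ i, D.d i ∈ L) :
      2 * (D.n 1 : ℤ) + 4 * (D.n 27 : ℤ) + (-15) * (D.n 320 : ℤ) + (-10) * (D.n 480 : ℤ) + 10 * (D.n 1080 : ℤ) +
      (-6) * (D.n 1728 : ℤ) + (-2) * (D.n 2048 : ℤ) = 0 := by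
  have h : ∑ i, (fun t : ℕ => fx t * fa t) (D.d i) = 0 := by
    rw [← D.xa]
    exact Finset.sum_congr rfl fun i _ => by rw [D.x_eq, D.a_eq]
  have h' := (D.sum_eq hL (fun t : ℕ => (fx t * fa t : ℤ))).symm.trans h
  rw [← h']
  simp only [L, List.map_cons, List.map_nil, List.sum_cons, List.sum_nil]
  norm_num [fa, fs, fx]
  ring

theorem e_xs (hL : ∀ i, D.d i ∈ L) :
      2 * (D.n 1 : ℤ) + 6 * (D.n 300 : ℤ) + (-12) * (D.n 320 : ℤ) + 12 * (D.n 480 : ℤ) + 14 * (D.n 1600 : ℤ) +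
      (-4) * (D.n 2048 : ℤ) + (-9) * (D.n 2400 : ℤ) = 0 := by
  have h : ∑ i, (fun t : ℕ => fx t * fs t) (D.d i) = 0 := by
    rw [← D.xs]
    exact Finset.sum_congr rfl fun i _ => by rw [D.x_eq, D.s_eq]
  have h' := (D.sum_eq hL (fun t : ℕ => (fx t * fs t : ℤ))).symm.trans h
  rw [← h']
  simp only [L, List.map_cons, List.map_nil, List.sum_cons, List.sum_nil]
  norm_num [fa, fs, fx]
  ring

theorem e_as (hL : ∀ i, D.d i ∈ L) :
      1 * (D.n 1 : ℤ) + (-1) * (D.n 26 : ℤ) + (-4) * (D.n 52 : ℤ) + (-9) * (D.n 78 : ℤ) + (-16) * (D.n 104 : ℤ) +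
      (-25) * (D.n 130 : ℤ) + (-30) * (D.n 195 : ℤ) + 20 * (D.n 320 : ℤ) + (-30) * (D.n 480 : ℤ) +
      (-35) * (D.n 520 : ℤ) + (-3) * (D.n 624 : ℤ) + (-15) * (D.n 780 : ℤ) + (-12) * (D.n 1248 : ℤ) +
      8 * (D.n 2048 : ℤ) + 5 * (D.n 2080 : ℤ) = 0 := by
  have h : ∑ i, (fun t : ℕ => fa t * fs t) (D.d i) = 0 := by
    rw [← D.as]
    exact Finset.sum_congr rfl fun i _ => by rw [D.a_eq, D.s_eq]
  have h' := (D.sum_eq hL (fun t : ℕ => (fa t * fs t : ℤ))).symm.trans h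
  rw [← h']
  simp only [L, List.map_cons, List.map_nil, List.sum_cons, List.sum_nil]
  norm_num [fa, fs, fx]
  ring

theorem e_odd (hL : ∀ i, D.d i ∈ L) :
      (D.n 1 : ℤ) + (D.n 26 : ℤ) + (D.n 78 : ℤ) + (D.n 130 : ℤ) + (D.n 195 : ℤ) + (D.n 320 : ℤ) + (D.n 351 : ℤ) +
      (D.n 480 : ℤ) + (D.n 520 : ℤ) + (D.n 624 : ℤ) + (D.n 780 : ℤ) + (D.n 1080 : ℤ) + (D.n 1728 : ℤ) +
      (D.n 1755 : ℤ) + (D.n 2080 : ℤ) ≤ 10 := by
  have h : ∑ i, (fun t : ℕ => if fa t % 2 = 0 then (0 : ℤ) else 1) (D.d i) ≤ 10 := by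
    rw [← D.bb]
    refine Finset.sum_le_sum fun i _ => ?_
    show (if fa (D.d i) % 2 = 0 then (0 : ℤ) else 1) ≤ D.b i ^ 2
    split
    · exact sq_nonneg _
    · rename_i h1
      rw [← D.a_eq] at h1
      have h2 := D.hb i
      have h3 : D.b i ≠ 0 := by
        intro h0
        rw [h0] at h2
        omega
      have h4 : 0 < D.b i ^ 2 := by positivity
      omega
  rw [D.sum_eq hL (fun t : ℕ => if fa t % 2 = 0 then (0 : ℤ) else 1)] at h
  refine le_trans (le_of_eq ?_) h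
  simp only [L, List.map_cons, List.map_nil, List.sum_cons, List.sum_nil]
  norm_num [fa]
  ring

theorem e_cnt (hL : ∀ i, D.d i ∈ L) : ((Finset.univ.filter fun i => ¬ 25 ∣ D.d i).card : ℤ) =
      (D.n 1 : ℤ) + (D.n 26 : ℤ) + (D.n 27 : ℤ) + (D.n 52 : ℤ) + (D.n 78 : ℤ) + (D.n 104 : ℤ) + (D.n 130 : ℤ) +
      (D.n 195 : ℤ) + (D.n 320 : ℤ) + (D.n 351 : ℤ) + (D.n 480 : ℤ) + (D.n 520 : ℤ) + (D.n 624 : ℤ) + (D.n 702 : ℤ) +
      (D.n 780 : ℤ) + (D.n 1080 : ℤ) + (D.n 1248 : ℤ) + (D.n 1404 : ℤ) + (D.n 1728 : ℤ) + (D.n 1755 : ℤ) +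
      (D.n 2048 : ℤ) + (D.n 2080 : ℤ) := by
  have h : ∑ i, (fun t : ℕ => if 25 ∣ t then (0 : ℤ) else 1) (D.d i) =
      ((Finset.univ.filter fun i => ¬ 25 ∣ D.d i).card : ℤ) := by
    rw [Finset.card_filter]
    push_cast
    refine Finset.sum_congr rfl fun i _ => ?_
    by_cases h1 : 25 ∣ D.d i
    · simp [h1]
    · simp [h1]
  rw [← h, D.sum_eq hL (fun t : ℕ => if 25 ∣ t then (0 : ℤ) else 1)]
  simp only [L, List.map_cons, List.map_nil, List.sum_cons, List.sum_nil]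
  norm_num
  ring

theorem n_pos {i : I} {t : ℕ} (h : D.d i = t) : 1 ≤ D.n t :=
  Finset.card_pos.2 ⟨i, Finset.mem_filter.2 ⟨Finset.mem_univ _, h⟩⟩

theorem two_le_n {i j : I} {t : ℕ} (hi : D.d i = t) (hj : D.d j = t) (hij : i ≠ j) : 2 ≤ D.n t := by
  have h1 : ({i, j} : Finset I) ⊆ Finset.univ.filter fun i => D.d i = t := by
    intro k hk
    simp only [Finset.mem_insert, Finset.mem_singleton] at hk
    rcases hk with rfl | rfl
    · exact Finset.mem_filter.2 ⟨Finset.mem_univ _, hi⟩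
    · exact Finset.mem_filter.2 ⟨Finset.mem_univ _, hj⟩
  have h2 := Finset.card_le_card h1
  rwa [Finset.card_pair hij] at h2

/-- **The degrees.** -/
theorem main {i1 i27 i675 j1 j2 i78 : I} (h1 : D.d i1 = 1) (hn1 : D.n 1 = 1) (h27 : D.d i27 = 27)
    (h675 : D.d i675 = 675) (hj1 : D.d j1 = 2048) (hj2 : D.d j2 = 2048) (hj : j1 ≠ j2) (h78 : D.d i78 = 78)
    (h624 : 2 ≤ D.n 624 ∨ 1 ≤ D.n 1248) :
    (Finset.univ.filter fun i => ¬ 25 ∣ D.d i).card = 16 ∧ D.n 26 = 2 ∧ D.n 27 = 2 ∧ D.n 78 = 1 ∧ D.n 351 = 3 ∧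
      D.n 624 = 2 ∧ D.n 702 = 2 ∧ D.n 1728 = 1 ∧ D.n 2048 = 2 := by
  have hL := D.mem_L h1 h27 h675 hj1 hj2 hj h78
  have g27 := D.n_pos h27
  have g675 := D.n_pos h675
  have g78 := D.n_pos h78
  have g2048 := D.two_le_n hj1 hj2 hj
  have g3 : D.n 2048 ≤ 3 := by
    have e1 := D.e_dd hL
    omega
  obtain ⟨x1, x2, x3, x4, x5, x6, x7, x8, x9, x10⟩ := xpart hn1 (D.e_xx hL) (D.e_xd hL) (D.e_xa hL) (D.e_xs hL)
    g27 g675 g2048 g3
  have e2 := D.e_aa hL
  have e8 := D.e_as hL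
  have e9 := D.e_odd hL
  have e10 := D.e_cnt hL
  rw [x1, x3, x4, x6, x7, x8, hn1] at e2
  rw [x1, x3, x4, x6, x7, x8, hn1] at e10
  rw [x4, x6, x7, hn1] at e8
  rw [x3, x6, x7, x8, hn1] at e9
  push_cast at e2 e8 e9 e10
  have f2 : D.n 26 + 4 * D.n 52 + 9 * D.n 78 + 16 * D.n 104 + 25 * (D.n 130 + D.n 195 + D.n 520 + D.n 780 +
      D.n 1755 + D.n 2080) + D.n 351 + D.n 624 + 4 * D.n 702 + 4 * D.n 1248 + 16 * D.n 1404 = 24 := by
    zify
    linarith
  have f8 : D.n 26 + 4 * D.n 52 + 9 * D.n 78 + 16 * D.n 104 + 25 * D.n 130 + 30 * D.n 195 + 35 * D.n 520 +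
      3 * D.n 624 + 15 * D.n 780 + 12 * D.n 1248 = 17 + 5 * D.n 2080 := by
    zify
    linarith
  have f9 : D.n 26 + D.n 78 + D.n 351 + D.n 624 ≤ 8 := by
    have r1 : (0 : ℤ) ≤ (D.n 130 : ℤ) := Int.natCast_nonneg _
    have r2 : (0 : ℤ) ≤ (D.n 195 : ℤ) := Int.natCast_nonneg _
    have r3 : (0 : ℤ) ≤ (D.n 520 : ℤ) := Int.natCast_nonneg _
    have r4 : (0 : ℤ) ≤ (D.n 780 : ℤ) := Int.natCast_nonneg _
    have r5 : (0 : ℤ) ≤ (D.n 1755 : ℤ) := Int.natCast_nonneg _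
    have r6 : (0 : ℤ) ≤ (D.n 2080 : ℤ) := Int.natCast_nonneg _
    zify
    linarith
  obtain ⟨⟨z1, z2, z3, z4, z5, z6, z7, z8, z9⟩, z10⟩ := apart f2 f8 f9 g78 h624
  have w : D.n 130 = 0 ∧ D.n 195 = 0 ∧ D.n 520 = 0 ∧ D.n 780 = 0 ∧ D.n 1755 = 0 ∧ D.n 2080 = 0 := by
    clear e2 e8 e9 e10 f2 f8 f9
    omega
  obtain ⟨w1, w2, w3, w4, w5, w6⟩ := w
  rw [z1, z2, z3, z4, z5, z6, z7, z8, z9, w1, w2, w3, w4, w5, w6] at e10
  refine ⟨?_, z1, x1, z3, z5, z6, z7, x3, x4⟩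
  norm_num at e10
  exact_mod_cast e10

end Data

end Cfsg.Agent.H757.TI.TitsArith

end

/-!
# Restriction to a subgroup of index two; multiplicities over subgroups (helper757)

* `pair_of_index_two` : the restriction of an irreducible character of degree `d` to a subgroup of index 2 is
  irreducible, or the subgroup has two irreducible characters of degree `d / 2`;
* `exists_mult`, `exists_mult_zpowers` : the multiplicity of the trivial character of a subgroup.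
-/

section

namespace Cfsg.Agent.H757.TI

open Cfsg Cfsg.Agent.Characters.Core
open scoped ComplexConjugate

universe u

variable {G : Type u} [Group G] [Finite G]

/-- multiplicity of the trivial character -/
theorem exists_mult (H : Subgroup G) [Fintype H] {χ : G → ℂ} (hχ : IsCharacter G χ) :
    ∃ m : ℕ, ∑ x : H, χ x = m * Nat.card H := by
  obtain ⟨m, hm⟩ := classInner_isNat (G := H) (isCharacter_comp H.subtype hχ) isCharacter_one
  refine ⟨m, ?_⟩
  have hne : (Nat.card H : ℂ) ≠ 0 := card_ne_zero_complex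
  rw [classInner_def] at hm
  simp only [Pi.one_apply, map_one, mul_one] at hm
  rw [← hm]
  field_simp
  rfl

theorem exists_mult_zpowers {χ : G → ℂ} (hχ : IsCharacter G χ) (g : G) :
    ∃ m : ℕ, ∑ k ∈ Finset.range (orderOf g), χ (g ^ k) = m * orderOf g := by
  have := Fintype.ofFinite (Subgroup.zpowers g)
  obtain ⟨m, hm⟩ := exists_mult (Subgroup.zpowers g) hχ
  refine ⟨m, ?_⟩
  rw [Nat.card_zpowers] at hm
  rw [← hm, Finset.sum_range]
  have hfo : IsOfFinOrder g := isOfFinOrder_of_finite g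
  rw [← (finEquivZPowers hfo).sum_comp]
  rfl

/-- the restriction to a subgroup of index two -/
theorem pair_of_index_two (N : Subgroup G) [N.Normal] (hN : N.index = 2) {χ : G → ℂ} (hχ : IsIrrCharacter G χ)
    {d : ℕ} (hd : χ 1 = d) :
    (∃ θ : IrrCharacter N, (θ : N → ℂ) 1 = d) ∨
      ∃ (θ₁ θ₂ : IrrCharacter N) (c : ℕ), θ₁ ≠ θ₂ ∧ (θ₁ : N → ℂ) 1 = c ∧ (θ₂ : N → ℂ) 1 = c ∧ 2 * c = d := by
  classical
  have := Fintype.ofFinite G
  have := Fintype.ofFinite N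
  have hirr := finite_irr (G := N)
  have := Fintype.ofFinite (IrrCharacter N)
  have hχN : IsCharacter N (fun n : N => χ n) := isCharacter_comp N.subtype (isIrr_isCharacter hχ)
  obtain ⟨m, hm⟩ := exists_nat_comb hχN
  have hcoef : ∀ ψ : IrrCharacter N, classInner (fun n : N => χ n) (ψ : N → ℂ) = m ψ := by
    intro ψ
    rw [hm]
    exact classInner_sum_nsmul_irr m ψ
  -- the norm
  have hsum : ((∑ ψ, m ψ ^ 2 : ℕ) : ℂ) = classInner (fun n : N => χ n) (fun n : N => χ n) := by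
    have h2 := classInner_sum_smul_sum_smul (fun ψ : IrrCharacter N => (m ψ : ℂ)) (fun ψ => (m ψ : ℂ))
    simp only [Nat.cast_smul_eq_nsmul, map_natCast, ← pow_two] at h2
    rw [← hm] at h2
    rw [h2]
    push_cast
    rfl
  have hcard : Nat.card N * 2 = Nat.card G := by rw [← hN]; exact N.card_mul_index
  have hN0 : (0 : ℝ) < Nat.card N := by exact_mod_cast Nat.card_pos
  have hle : ∑ ψ, m ψ ^ 2 ≤ 2 := by
    have h1 : ((∑ ψ, m ψ ^ 2 : ℕ) : ℝ) * Nat.card N = ∑ n : N, Complex.normSq (χ n) := by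
      have h2 : ((((∑ ψ, m ψ ^ 2 : ℕ) : ℝ) * Nat.card N : ℝ) : ℂ) = ((∑ n : N, Complex.normSq (χ n) : ℝ) : ℂ) := by
        push_cast
        have h3 := hsum
        push_cast at h3
        rw [h3, classInner_def]
        have hne : (Nat.card N : ℂ) ≠ 0 := card_ne_zero_complex
        rw [mul_comm, ← mul_assoc, mul_inv_cancel₀ hne, one_mul]
        exact Finset.sum_congr rfl fun n _ => Complex.mul_conj _
      exact_mod_cast h2
    have h2 : ∑ g : G, Complex.normSq (χ g) = Nat.card G := by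
      have h3 := classInner_irr_self hχ
      rw [classInner_def] at h3
      have hne : (Nat.card G : ℂ) ≠ 0 := card_ne_zero_complex
      rw [inv_mul_eq_one₀ hne] at h3
      have h4 : ((∑ g : G, Complex.normSq (χ g) : ℝ) : ℂ) = ((Nat.card G : ℝ) : ℂ) := by
        push_cast
        rw [h3]
        exact Finset.sum_congr rfl fun n _ => (Complex.mul_conj _).symm
      exact_mod_cast h4
    have h3 : ∑ n : N, Complex.normSq (χ n) ≤ ∑ g : G, Complex.normSq (χ g) := by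
      rw [← Finset.sum_subtype (Finset.univ.filter fun g : G => g ∈ N) (fun x => by simp)
        (fun g : G => Complex.normSq (χ g))]
      exact Finset.sum_le_sum_of_subset_of_nonneg (Finset.filter_subset _ _) fun _ _ _ => Complex.normSq_nonneg _
    rw [← h1, h2, ← hcard] at h3
    push_cast at h3
    have h4 : ((∑ ψ, m ψ ^ 2 : ℕ) : ℝ) ≤ 2 := by
      push_cast
      have h5 : (∑ ψ, (m ψ : ℝ) ^ 2) * Nat.card N ≤ 2 * Nat.card N := by linarith
      exact le_of_mul_le_mul_right h5 hN0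
    exact_mod_cast h4
  have hone : ∀ f : N → ℂ, f = ∑ ψ : IrrCharacter N, m ψ • (ψ : N → ℂ) →
      f 1 = ∑ ψ : IrrCharacter N, (m ψ : ℂ) * (ψ : N → ℂ) 1 := by
    rintro f rfl
    simp [Finset.sum_apply]
  have hdeg : (d : ℂ) = ∑ ψ : IrrCharacter N, (m ψ : ℂ) * (ψ : N → ℂ) 1 := by
    rw [← hone _ hm, ← hd]
    simp
  obtain ⟨ψ, hψ⟩ : ∃ ψ, m ψ ≠ 0 := by
    by_contra hc
    push Not at hc
    have : (d : ℂ) = 0 := by
      rw [hdeg]
      simp [hc]
    rw [← hd] at this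
    exact isIrr_apply_one_ne_zero hχ this
  have hsq : ∀ φ, m φ ≠ 0 → m φ = 1 := by
    intro φ hφ
    have h1 := Finset.single_le_sum (f := fun ψ => m ψ ^ 2) (fun _ _ => Nat.zero_le _) (Finset.mem_univ φ)
    have h2 : m φ ^ 2 ≤ 2 := le_trans h1 hle
    have h3 : m φ < 2 := by
      by_contra h4
      push Not at h4
      nlinarith
    omega
  by_cases hex : ∃ φ, φ ≠ ψ ∧ m φ ≠ 0
  · right
    obtain ⟨φ, hφψ, hφ⟩ := hex
    have hz : ∀ ω, ω ≠ ψ → ω ≠ φ → m ω = 0 := by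
      intro ω h1 h2
      by_contra h3
      have h4 : ∑ x ∈ ({ψ, φ, ω} : Finset (IrrCharacter N)), m x ^ 2 ≤ ∑ x, m x ^ 2 :=
        Finset.sum_le_sum_of_subset_of_nonneg (Finset.subset_univ _) fun _ _ _ => Nat.zero_le _
      rw [Finset.sum_insert (by simp [hφψ.symm, h1.symm]), Finset.sum_insert (by simp [h2.symm]),
        Finset.sum_singleton, hsq ψ hψ, hsq φ hφ, hsq ω h3] at h4
      omega
    have hd2 : (d : ℂ) = (ψ : N → ℂ) 1 + (φ : N → ℂ) 1 := by
      rw [hdeg, ← Finset.add_sum_erase _ _ (Finset.mem_univ ψ),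
        ← Finset.add_sum_erase _ _ (Finset.mem_erase.2 ⟨hφψ, Finset.mem_univ φ⟩), Finset.sum_eq_zero, hsq ψ hψ,
        hsq φ hφ]
      · simp
      · intro ω hω
        rw [Finset.mem_erase, Finset.mem_erase] at hω
        rw [hz ω hω.2.1 hω.1]
        simp
    obtain ⟨c, hc0, hc⟩ := isIrr_apply_one ψ.2
    obtain ⟨c', hc0', hc'⟩ := isIrr_apply_one φ.2
    have e : d = c + c' := by
      rw [hc, hc'] at hd2
      exact_mod_cast hd2
    have h5 := S0887.result N χ hχ ψ ψ.2 (by rw [hcoef, hsq ψ hψ]; simp) d c hd hc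
    obtain ⟨⟨k, hk⟩, h6⟩ := h5
    rw [hN, hk, Nat.mul_div_cancel_left _ hc0] at h6
    have h7 : c' = c := by
      rcases (Nat.dvd_prime Nat.prime_two).1 h6 with rfl | rfl <;> omega
    subst h7
    exact ⟨ψ, φ, c', hφψ.symm, hc, hc', by omega⟩
  · left
    push Not at hex
    refine ⟨ψ, ?_⟩
    rw [hdeg, Finset.sum_eq_single ψ]
    · rw [hsq ψ hψ]; simp
    · intro φ _ hφ
      rw [hex φ hφ]; simp
    · intro h
      exact absurd (Finset.mem_univ _) h

end Cfsg.Agent.H757.TI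

end

section

namespace Cfsg.Agent.H757.TI

open Cfsg Cfsg.Agent.Characters.Core
open scoped ComplexConjugate

universe u

/-- the facts which are used -/
structure TG (G : Type u) [Group G] where
  card : Nat.card G = 17971200
  lin : ∀ χ : G → ℂ, IsIrrCharacter G χ → χ 1 = 1 → χ = 1
  P : Subgroup G
  cardP : Nat.card P = 25
  v : G
  v5 : orderOf v = 5
  vP : v ∈ P
  conjP : ∀ a ∈ P, a ≠ 1 → IsConj v a
  centv : Nat.card (Subgroup.centralizer ({v} : Set G)) = 50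
  R : Subgroup G
  cardR : Nat.card R = 27
  t : G
  t3 : orderOf t = 3
  conjR : ∀ a ∈ R, a ≠ 1 → IsConj t a
  centt : Nat.card (Subgroup.centralizer ({t} : Set G)) = 108
  g : G
  g13 : orderOf g = 13
  real : IsConj g g⁻¹
  cube : IsConj g (g ^ 3)
  centg : Nat.card (Subgroup.centralizer ({g} : Set G)) = 13
  i : G
  i2 : i * i = 1
  i1 : i ≠ 1
  comm : v * i = i * v
  conjv : ∀ k < 5, k ≠ 0 → IsConj (v * i) (v ^ k * i)
  centvi : Nat.card (Subgroup.centralizer ({v * i} : Set G)) = 10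

variable {G : Type u} [Group G]

theorem apply_eq_of_isConj {χ : G → ℂ} (hχ : IsCharacter G χ) {a b : G} (h : IsConj a b) : χ a = χ b := by
  obtain ⟨c, hc⟩ := isConj_iff.1 h
  rw [← hc]
  exact (isCharacter_isClassFunction hχ a c).symm

theorem int_of_mul {χ : G → ℂ} [Finite G] (hχ : IsCharacter G χ) (g : G) {a b : ℤ} (hb : b ≠ 0)
    (h : (b : ℂ) * χ g = a) : ∃ z : ℤ, χ g = z := by
  have hint : IsIntegral ℤ (χ g) := by
    obtain ⟨n, ρ, rfl⟩ := hχ
    exact Characters.Values.character_isIntegral ρ g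
  have hb' : (b : ℂ) ≠ 0 := by exact_mod_cast hb
  have h1 : χ g = algebraMap ℚ ℂ ((a : ℚ) / b) := by
    rw [eq_ratCast]
    push_cast
    rw [eq_div_iff hb', mul_comm, h]
  rw [h1] at hint
  rw [isIntegral_algebraMap_iff (algebraMap ℚ ℂ).injective] at hint
  obtain ⟨z, hz⟩ := IsIntegrallyClosed.isIntegral_iff.1 hint
  refine ⟨z, ?_⟩
  rw [h1, ← hz]
  simp

/-- a subgroup whose nonidentity elements are conjugate -/
theorem val_of_sub [Finite G] (H : Subgroup G) {n : ℕ} (hn : Nat.card H = n) (h1 : 1 < n) {x : G}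
    (hH : ∀ a ∈ H, a ≠ 1 → IsConj x a) {χ : G → ℂ} (hχ : IsCharacter G χ) {d : ℕ} (hd : χ 1 = d) :
    ∃ (z : ℤ) (m : ℕ), χ x = z ∧ (d : ℤ) + (n - 1) * z = n * m := by
  classical
  have := Fintype.ofFinite H
  obtain ⟨m, hm⟩ := exists_mult H hχ
  have hs : ∑ a : H, χ a = d + ((n : ℂ) - 1) * χ x := by
    rw [← Finset.add_sum_erase _ _ (Finset.mem_univ (1 : H))]
    rw [Finset.sum_congr rfl (g := fun _ => χ x)]
    · rw [Finset.sum_const, Finset.card_erase_of_mem (Finset.mem_univ _), Finset.card_univ, ← Nat.card_eq_fintype_card,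
        hn, nsmul_eq_mul, Nat.cast_sub (by omega)]
      push_cast
      rw [← hd]
    · intro a ha
      have ha1 : (a : G) ≠ 1 := fun h => (Finset.mem_erase.1 ha).1 (Subtype.ext h)
      exact (apply_eq_of_isConj hχ (hH a a.2 ha1)).symm
  rw [hs, hn] at hm
  obtain ⟨z, hz⟩ := int_of_mul hχ x (a := (m : ℤ) * n - d) (b := (n : ℤ) - 1) (by omega) (by
    push_cast
    rw [← hm]
    ring)
  refine ⟨z, m, hz, ?_⟩
  rw [hz] at hm
  have h2 : (((d : ℤ) + (n - 1) * z : ℤ) : ℂ) = ((n * m : ℤ) : ℂ) := by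
    push_cast
    rw [hm]
    ring
  exact_mod_cast h2

namespace TG

variable [Finite G] (T : TG G)

/-- the powers of `g` -/
theorem conj_g (k : ℕ) (hk : k ∈ [1, 3, 4, 9, 10, 12]) : IsConj T.g (T.g ^ k) := by
  have h12 : T.g⁻¹ = T.g ^ 12 := by
    rw [inv_eq_iff_mul_eq_one, ← pow_succ']
    show T.g ^ 13 = 1
    rw [← T.g13, pow_orderOf_eq_one]
  have e : ∀ n : ℕ, T.g ^ n = T.g ^ (n % 13) := fun n => by rw [← T.g13, pow_mod_orderOf]
  have h3 := T.cube
  have hr := T.real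
  rw [h12] at hr
  have h9 : IsConj T.g (T.g ^ 9) := by
    have := h3.trans ((IsConj.pow 3 h3))
    rwa [← pow_mul] at this
  have h10 : IsConj T.g (T.g ^ 10) := by
    have := hr.trans (IsConj.pow 12 h3)
    rwa [← pow_mul, e (3 * 12)] at this
  have h4 : IsConj T.g (T.g ^ 4) := by
    have := hr.trans (IsConj.pow 12 h9)
    rwa [← pow_mul, e (9 * 12)] at this
  simp only [List.mem_cons, List.not_mem_nil, or_false] at hk
  rcases hk with rfl | rfl | rfl | rfl | rfl | rfl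
  · rw [pow_one]
  all_goals assumption

theorem conj_g2 (k : ℕ) (hk : k ∈ [2, 5, 6, 7, 8, 11]) : IsConj (T.g ^ 2) (T.g ^ k) := by
  have e : ∀ n : ℕ, T.g ^ n = T.g ^ (n % 13) := fun n => by rw [← T.g13, pow_mod_orderOf]
  have key : ∀ l ∈ [1, 3, 4, 9, 10, 12], IsConj (T.g ^ 2) (T.g ^ (l * 2 % 13)) := by
    intro l hl
    have := IsConj.pow 2 (T.conj_g l hl)
    rwa [← pow_mul, e (l * 2)] at this
  simp only [List.mem_cons, List.not_mem_nil, or_false] at hk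
  rcases hk with rfl | rfl | rfl | rfl | rfl | rfl
  · exact key 1 (by decide)
  · exact key 9 (by decide)
  · exact key 3 (by decide)
  · exact key 10 (by decide)
  · exact key 4 (by decide)
  · exact key 12 (by decide)

theorem val_g {χ : G → ℂ} (hχ : IsCharacter G χ) {d : ℕ} (hd : χ 1 = d) :
    ∃ (z : ℤ) (m : ℕ), χ T.g + χ (T.g ^ 2) = z ∧ (d : ℤ) + 6 * z = 13 * m := by
  obtain ⟨m, hm⟩ := exists_mult_zpowers hχ T.g
  rw [T.g13] at hm
  have h : ∀ k ∈ [1, 3, 4, 9, 10, 12], χ (T.g ^ k) = χ T.g := fun k hk => (apply_eq_of_isConj hχ (T.conj_g k hk)).symm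
  have h' : ∀ k ∈ [2, 5, 6, 7, 8, 11], χ (T.g ^ k) = χ (T.g ^ 2) := fun k hk =>
    (apply_eq_of_isConj hχ (T.conj_g2 k hk)).symm
  simp only [Finset.sum_range_succ, Finset.sum_range_zero, pow_zero, zero_add] at hm
  rw [h 1 (by decide), h 3 (by decide), h 4 (by decide), h 9 (by decide), h 10 (by decide), h 12 (by decide),
    h' 5 (by decide), h' 6 (by decide), h' 7 (by decide), h' 8 (by decide), h' 11 (by decide), hd] at hm
  have hint : IsIntegral ℤ (χ T.g + χ (T.g ^ 2)) := by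
    obtain ⟨n, ρ, rfl⟩ := hχ
    exact (Characters.Values.character_isIntegral ρ _).add (Characters.Values.character_isIntegral ρ _)
  have h1 : χ T.g + χ (T.g ^ 2) = algebraMap ℚ ℂ ((m * 13 - d : ℚ) / 6) := by
    rw [eq_ratCast]
    push_cast
    rw [eq_div_iff (by norm_num)]
    linear_combination hm
  have h2 := hint
  rw [h1, isIntegral_algebraMap_iff (algebraMap ℚ ℂ).injective] at h2
  obtain ⟨z, hz⟩ := IsIntegrallyClosed.isIntegral_iff.1 h2
  have hz' : χ T.g + χ (T.g ^ 2) = z := by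
    rw [h1, ← hz]
    simp
  refine ⟨z, m, hz', ?_⟩
  have h3 : (((d : ℤ) + 6 * z : ℤ) : ℂ) = ((13 * m : ℤ) : ℂ) := by
    push_cast
    rw [← hz']
    linear_combination hm
  exact_mod_cast h3

theorem v_pow (n : ℕ) : T.v ^ n = T.v ^ (n % 5) := by rw [← T.v5, pow_mod_orderOf]

theorem vi_pow_even (j : ℕ) : (T.v * T.i) ^ (2 * j) = T.v ^ (2 * j) := by
  have hc : Commute T.v T.i := T.comm
  rw [hc.mul_pow, pow_mul T.i, pow_two, T.i2, one_pow, mul_one]

theorem vi_pow_odd (j : ℕ) : (T.v * T.i) ^ (2 * j + 1) = T.v ^ (2 * j + 1) * T.i := by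
  have hc : Commute T.v T.i := T.comm
  rw [hc.mul_pow, pow_succ T.i, pow_mul T.i, pow_two, T.i2, one_pow, one_mul]

theorem order_i : orderOf T.i = 2 := orderOf_eq_prime (by rw [pow_two, T.i2]) T.i1

theorem order_vi : orderOf (T.v * T.i) = 10 := by
  have hc : Commute T.v T.i := T.comm
  rw [hc.orderOf_mul_eq_mul_orderOf_of_coprime (by rw [T.v5, T.order_i]; decide), T.v5, T.order_i]

theorem val_vi {χ : G → ℂ} (hχ : IsCharacter G χ) {d : ℕ} (hd : χ 1 = d) {a : ℤ}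
    (hpow : ∀ k < 5, k ≠ 0 → χ (T.v ^ k) = a) : ∃ b : ℤ, χ (T.v * T.i) = b ∧ (2 : ℤ) ∣ a - b := by
  obtain ⟨m, hm⟩ := exists_mult_zpowers hχ (T.v * T.i)
  obtain ⟨m', hm'⟩ := exists_mult_zpowers hχ T.i
  rw [T.order_vi] at hm
  rw [T.order_i] at hm'
  simp only [Finset.sum_range_succ, Finset.sum_range_zero, pow_zero, zero_add, pow_one] at hm hm'
  have e2 := T.vi_pow_even 1
  have e4 := T.vi_pow_even 2
  have e6 := T.vi_pow_even 3
  have e8 := T.vi_pow_even 4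
  have e3 := T.vi_pow_odd 1
  have e5 := T.vi_pow_odd 2
  have e7 := T.vi_pow_odd 3
  have e9 := T.vi_pow_odd 4
  norm_num only at e2 e3 e4 e5 e6 e7 e8 e9
  rw [T.v_pow 6] at e6
  rw [T.v_pow 8] at e8
  rw [T.v_pow 5] at e5
  rw [T.v_pow 7] at e7
  rw [T.v_pow 9] at e9
  norm_num only at e5 e6 e7 e8 e9
  rw [pow_zero, one_mul] at e5
  have hb : ∀ k < 5, k ≠ 0 → χ (T.v ^ k * T.i) = χ (T.v * T.i) := fun k hk h0 =>
    (apply_eq_of_isConj hχ (T.conjv k hk h0)).symm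
  rw [e2, e3, e4, e5, e6, e7, e8, e9, hb 3 (by norm_num) (by norm_num), hb 2 (by norm_num) (by norm_num),
    hb 4 (by norm_num) (by norm_num), hpow 2 (by norm_num) (by norm_num), hpow 4 (by norm_num) (by norm_num),
    hpow 1 (by norm_num) (by norm_num), hpow 3 (by norm_num) (by norm_num), hd] at hm
  rw [hd] at hm'
  obtain ⟨b, hb'⟩ := int_of_mul hχ (T.v * T.i) (a := 10 * m - 2 * m' - 4 * a) (b := 4) (by norm_num) (by
    push_cast
    linear_combination hm - hm')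
  refine ⟨b, hb', ?_⟩
  have hsym := PermChar.SymAlt.isCharacter_symSq hχ
  have hyy : T.v * T.i * (T.v * T.i) = T.v ^ 2 := by rw [← pow_two, e2]
  obtain ⟨w, hw⟩ := int_of_mul hsym (T.v * T.i) (a := b ^ 2 + a) (b := 2) (by norm_num) (by
    rw [hyy, hpow 2 (by norm_num) (by norm_num), hb']
    push_cast
    ring)
  rw [hyy, hpow 2 (by norm_num) (by norm_num), hb'] at hw
  have h3 : b ^ 2 + a = 2 * w := by
    have h4 : (((b ^ 2 + a : ℤ)) : ℂ) = ((2 * w : ℤ) : ℂ) := by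
      push_cast
      linear_combination 2 * hw
    exact_mod_cast h4
  rcases Int.even_or_odd b with ⟨c, hc⟩ | ⟨c, hc⟩
  · refine ⟨w - 2 * c * c - c, ?_⟩
    rw [hc] at h3 ⊢
    linear_combination h3
  · refine ⟨w - 2 * c * c - 3 * c - 1, ?_⟩
    rw [hc] at h3 ⊢
    linear_combination h3

end TG

section orth

variable [Finite G] [Fintype (IrrCharacter G)]

theorem orth_ne {x y : G} (h : ¬ IsConj x y) : ∑ χ : IrrCharacter G, (χ : G → ℂ) x * conj ((χ : G → ℂ) y) = 0 := by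
  classical
  rw [H686.CharKit.col_orth, if_neg h]

theorem orth_self (x : G) : ∑ χ : IrrCharacter G, (χ : G → ℂ) x * conj ((χ : G → ℂ) x) =
    Nat.card (Subgroup.centralizer ({x} : Set G)) := by
  classical
  rw [H686.CharKit.col_orth, if_pos (IsConj.refl x)]

theorem orth_int_ne {x y : G} {p q : IrrCharacter G → ℤ} (hp : ∀ χ : IrrCharacter G, (χ : G → ℂ) x = p χ)
    (hq : ∀ χ : IrrCharacter G, (χ : G → ℂ) y = q χ) (h : ¬ IsConj x y) : ∑ χ, p χ * q χ = 0 := by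
  have h1 := orth_ne h
  simp only [hp, hq, map_intCast] at h1
  exact_mod_cast h1

theorem orth_int_self {x : G} {p : IrrCharacter G → ℤ} (hp : ∀ χ : IrrCharacter G, (χ : G → ℂ) x = p χ) :
    ∑ χ, p χ ^ 2 = Nat.card (Subgroup.centralizer ({x} : Set G)) := by
  have h1 := orth_self (G := G) x
  simp only [hp, map_intCast, ← pow_two] at h1
  exact_mod_cast h1

theorem orth_sum_ne {x x' y : G} {p q : IrrCharacter G → ℤ} (hp : ∀ χ : IrrCharacter G, (χ : G → ℂ) x + (χ : G → ℂ) x' = p χ)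
    (hq : ∀ χ : IrrCharacter G, (χ : G → ℂ) y = q χ) (h : ¬ IsConj x y) (h' : ¬ IsConj x' y) : ∑ χ, p χ * q χ = 0 := by
  have h1 : ∑ χ : IrrCharacter G, (((χ : G → ℂ) x + (χ : G → ℂ) x') * conj ((χ : G → ℂ) y)) = 0 := by
    simp only [add_mul, Finset.sum_add_distrib]
    rw [orth_ne h, orth_ne h', add_zero]
  simp only [hp, hq, map_intCast] at h1
  exact_mod_cast h1

theorem orth_sum_self {x x' : G} {p : IrrCharacter G → ℤ} (hp : ∀ χ : IrrCharacter G, (χ : G → ℂ) x + (χ : G → ℂ) x' = p χ)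
    (h : ¬ IsConj x x') : ∑ χ, p χ ^ 2 = Nat.card (Subgroup.centralizer ({x} : Set G)) +
      Nat.card (Subgroup.centralizer ({x'} : Set G)) := by
  have h1 : ∑ χ : IrrCharacter G, (((χ : G → ℂ) x + (χ : G → ℂ) x') * conj ((χ : G → ℂ) x + (χ : G → ℂ) x')) =
      Nat.card (Subgroup.centralizer ({x} : Set G)) + Nat.card (Subgroup.centralizer ({x'} : Set G)) := by
    simp only [map_add, add_mul, mul_add, Finset.sum_add_distrib]
    rw [orth_ne h, orth_ne (fun h' => h h'.symm), orth_self, orth_self]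
    ring
  simp only [hp, map_intCast, ← pow_two] at h1
  exact_mod_cast h1

theorem not_isConj_of_order {x y : G} (h : orderOf x ≠ orderOf y) : ¬ IsConj x y := by
  intro hc
  obtain ⟨c, hc⟩ := isConj_iff.1 hc
  apply h
  rw [← hc]
  exact ((MulAut.conj c).orderOf_eq x).symm

end orth

namespace TG

variable [Finite G] [Fintype (IrrCharacter G)] (T : TG G)

theorem charDegree_eq (χ : IrrCharacter G) : (χ : G → ℂ) 1 = (charDegree (χ : G → ℂ) : ℕ) :=
  (H686.CharKit.charDegree_irr χ).symm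

theorem hpow {χ : G → ℂ} (hχ : IsCharacter G χ) {a : ℤ} (ha : χ T.v = a) (k : ℕ) (hk : k < 5) (h0 : k ≠ 0) :
    χ (T.v ^ k) = a := by
  rw [← ha]
  refine (apply_eq_of_isConj hχ (T.conjP _ (pow_mem T.vP k) ?_)).symm
  intro h
  have h1 := orderOf_dvd_of_pow_eq_one h
  rw [T.v5] at h1
  have := Nat.le_of_dvd (Nat.pos_of_ne_zero h0) h1
  omega

/-- the numbers -/
theorem exists_data (hns : ¬ IsConj T.g (T.g ^ 2)) (hc2 : Nat.card (Subgroup.centralizer ({T.g ^ 2} : Set G)) = 13)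
    (hg2 : orderOf (T.g ^ 2) = 13) (hdvd : ∀ χ : IrrCharacter G, charDegree (χ : G → ℂ) ∣ Nat.card G) :
    ∃ D : TitsArith.Data (IrrCharacter G), D.d = fun χ : IrrCharacter G => charDegree (χ : G → ℂ) := by
  have hch : ∀ χ : IrrCharacter G, IsCharacter G (χ : G → ℂ) := fun χ => isIrr_isCharacter χ.2
  have hA := fun χ : IrrCharacter G => val_of_sub T.P T.cardP (by norm_num) T.conjP (hch χ) (charDegree_eq χ)
  have hS := fun χ : IrrCharacter G => val_of_sub T.R T.cardR (by norm_num) T.conjR (hch χ) (charDegree_eq χ)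
  have hX := fun χ : IrrCharacter G => T.val_g (hch χ) (charDegree_eq χ)
  choose a ma ha ha' using hA
  choose s ms hs hs' using hS
  choose x mx hx hx' using hX
  have hB := fun χ : IrrCharacter G => T.val_vi (hch χ) (charDegree_eq χ) (T.hpow (hch χ) (ha χ))
  choose b hb hb' using hB
  have hd : ∀ χ : IrrCharacter G, (χ : G → ℂ) 1 = ((charDegree (χ : G → ℂ) : ℤ) : ℂ) := fun χ => by
    rw [charDegree_eq χ]
    push_cast
    rfl
  have hc1 : Nat.card (Subgroup.centralizer ({(1 : G)} : Set G)) = 17971200 := by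
    have : Subgroup.centralizer ({(1 : G)} : Set G) = ⊤ := by
      rw [eq_top_iff]
      intro y _
      rw [Subgroup.mem_centralizer_singleton_iff, mul_one, one_mul]
    rw [this, Subgroup.card_top, T.card]
  have o1 : orderOf (1 : G) = 1 := orderOf_one
  refine ⟨{
    d := fun χ => charDegree (χ : G → ℂ)
    a := a
    s := s
    x := x
    b := b
    hd := fun χ => by rw [← T.card]; exact hdvd χ
    ha := fun χ => ⟨ma χ - a χ, by have := ha' χ; push_cast at this; linear_combination this⟩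
    hs := fun χ => ⟨ms χ - s χ, by have := hs' χ; push_cast at this; linear_combination this⟩
    hx := fun χ => ⟨2 * mx χ - x χ, by have := hx' χ; linear_combination 2 * this⟩
    hb := hb'
    pa := fun χ => by
      have := ha' χ
      push_cast at this
      have h2 : (0 : ℤ) ≤ ma χ := Int.natCast_nonneg _
      linarith
    ps := fun χ => by
      have := hs' χ
      push_cast at this
      have h2 : (0 : ℤ) ≤ ms χ := Int.natCast_nonneg _
      linarith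
    px := fun χ => by
      have := hx' χ
      have h2 : (0 : ℤ) ≤ mx χ := Int.natCast_nonneg _
      linarith
    dd := by
      have := orth_int_self hd
      rw [hc1] at this
      exact_mod_cast this
    aa := by
      have := orth_int_self ha
      rw [T.centv] at this
      exact_mod_cast this
    ss := by
      have := orth_int_self hs
      rw [T.centt] at this
      exact_mod_cast this
    xx := by
      have := orth_sum_self hx hns
      rw [T.centg, hc2] at this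
      exact_mod_cast this
    bb := by
      have := orth_int_self hb
      rw [T.centvi] at this
      exact_mod_cast this
    xd := orth_sum_ne hx hd (not_isConj_of_order (by rw [T.g13, o1]; decide))
      (not_isConj_of_order (by rw [hg2, o1]; decide))
    xa := orth_sum_ne hx ha (not_isConj_of_order (by rw [T.g13, T.v5]; decide))
      (not_isConj_of_order (by rw [hg2, T.v5]; decide))
    xs := orth_sum_ne hx hs (not_isConj_of_order (by rw [T.g13, T.t3]; decide))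
      (not_isConj_of_order (by rw [hg2, T.t3]; decide))
    as := orth_int_ne ha hs (not_isConj_of_order (by rw [T.v5, T.t3]; decide)) }, rfl⟩

end TG

/-- the degrees which are known -/
structure Degs (G : Type u) [Group G] : Prop where
  dvd : ∀ χ : IrrCharacter G, charDegree (χ : G → ℂ) ∣ Nat.card G
  d27 : ∃ χ : IrrCharacter G, charDegree (χ : G → ℂ) = 27
  d675 : ∃ χ : IrrCharacter G, charDegree (χ : G → ℂ) = 675
  d78 : ∃ χ : IrrCharacter G, charDegree (χ : G → ℂ) = 78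
  d2048 : ∃ χ₁ χ₂ : IrrCharacter G, χ₁ ≠ χ₂ ∧ charDegree (χ₁ : G → ℂ) = 2048 ∧ charDegree (χ₂ : G → ℂ) = 2048
  d624 : (∃ χ₁ χ₂ : IrrCharacter G, χ₁ ≠ χ₂ ∧ charDegree (χ₁ : G → ℂ) = 624 ∧ charDegree (χ₂ : G → ℂ) = 624) ∨
    ∃ χ : IrrCharacter G, charDegree (χ : G → ℂ) = 1248

/-- the number of characters of degree `d` -/
noncomputable def num (G : Type u) [Group G] (d : ℕ) : ℕ :=
  Nat.card {χ : IrrCharacter G // charDegree (χ : G → ℂ) = d}

theorem not_isConj_g [Finite G] (T : TG G) (h : Degs G) : ¬ IsConj T.g (T.g ^ 2) := by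
  intro hc
  classical
  have := finite_irr (G := G)
  have := Fintype.ofFinite (IrrCharacter G)
  have hall : ∀ a ∈ Subgroup.zpowers T.g, a ≠ 1 → IsConj T.g a := by
    intro a ha ha1
    obtain ⟨k, hk⟩ := (isOfFinOrder_of_finite T.g).mem_powers_iff_mem_zpowers.2 ha
    have hk' : T.g ^ (k % 13) = a := by
      rw [← hk]
      show _ = T.g ^ k
      rw [← T.g13, pow_mod_orderOf]
    have hlt : k % 13 < 13 := Nat.mod_lt _ (by norm_num)
    rw [← hk']
    rw [← hk'] at ha1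
    generalize k % 13 = l at hlt ha1 ⊢
    have c2 : ∀ l ∈ [2, 5, 6, 7, 8, 11], IsConj T.g (T.g ^ l) := fun l hl => hc.trans (T.conj_g2 l hl)
    interval_cases l
    · exact absurd (pow_zero _) ha1
    · exact T.conj_g 1 (by decide)
    · exact c2 2 (by decide)
    · exact T.conj_g 3 (by decide)
    · exact T.conj_g 4 (by decide)
    · exact c2 5 (by decide)
    · exact c2 6 (by decide)
    · exact c2 7 (by decide)
    · exact c2 8 (by decide)
    · exact T.conj_g 9 (by decide)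
    · exact T.conj_g 10 (by decide)
    · exact c2 11 (by decide)
    · exact T.conj_g 12 (by decide)
  have hX := fun χ : IrrCharacter G => val_of_sub (Subgroup.zpowers T.g) (n := 13) (by rw [Nat.card_zpowers, T.g13])
    (by norm_num) hall (isIrr_isCharacter χ.2) (TG.charDegree_eq χ)
  choose z m hz hz' using hX
  have h1 := orth_int_self hz
  rw [T.centg] at h1
  obtain ⟨χ, -, -, hχ, -⟩ := h.d2048
  have h2 := Finset.single_le_sum (f := fun χ => z χ ^ 2) (fun _ _ => sq_nonneg _) (Finset.mem_univ χ)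
  rw [h1] at h2
  have h3 := hz' χ
  rw [hχ] at h3
  push_cast at h2 h3
  have h4 : z χ ≤ 3 := by nlinarith
  have h5 : -3 ≤ z χ := by nlinarith
  omega

/-- **The degrees which are not divisible by 25.** -/
theorem count [Finite G] (T : TG G) (h : Degs G) :
    Nat.card {χ : IrrCharacter G // ¬ 25 ∣ charDegree (χ : G → ℂ)} = 16 ∧ num G 26 = 2 ∧ num G 27 = 2 ∧
      num G 78 = 1 ∧ num G 351 = 3 ∧ num G 624 = 2 ∧ num G 702 = 2 ∧ num G 1728 = 1 ∧ num G 2048 = 2 := by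
  classical
  have := finite_irr (G := G)
  have := Fintype.ofFinite (IrrCharacter G)
  have e : ∀ n : ℕ, T.g ^ n = T.g ^ (n % 13) := fun n => by rw [← T.g13, pow_mod_orderOf]
  have hg2 : orderOf (T.g ^ 2) = 13 := by
    rw [Nat.Coprime.orderOf_pow (by rw [T.g13]; decide), T.g13]
  have hc2 : Nat.card (Subgroup.centralizer ({T.g ^ 2} : Set G)) = 13 := by
    have h1 : Subgroup.centralizer ({T.g ^ 2} : Set G) = Subgroup.centralizer ({T.g} : Set G) := by
      ext x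
      rw [Subgroup.mem_centralizer_singleton_iff, Subgroup.mem_centralizer_singleton_iff]
      constructor
      · intro hx
        have h2 : Commute x ((T.g ^ 2) ^ 7) := (show Commute x (T.g ^ 2) from hx).pow_right 7
        rw [← pow_mul, e (2 * 7)] at h2
        norm_num only at h2
        rw [pow_one] at h2
        exact h2
      · intro hx
        exact (show Commute x T.g from hx).pow_right 2
    rw [h1, T.centg]
  obtain ⟨D, hD⟩ := T.exists_data (not_isConj_g T h) hc2 hg2 h.dvd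
  have hDχ : ∀ χ : IrrCharacter G, D.d χ = charDegree (χ : G → ℂ) := fun χ => by rw [hD]
  have hn : ∀ t, D.n t = num G t := by
    intro t
    unfold num TitsArith.Data.n
    rw [Nat.card_eq_fintype_card, Fintype.card_subtype]
    simp only [hDχ]
  have hone : ∀ χ : IrrCharacter G, charDegree (χ : G → ℂ) = 1 ↔ χ = ⟨1, isIrr_one⟩ := by
    intro χ
    constructor
    · intro h1
      apply Subtype.ext
      apply T.lin _ χ.2
      rw [TG.charDegree_eq χ, h1]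
      simp
    · rintro rfl
      have h1 := TG.charDegree_eq (⟨1, isIrr_one⟩ : IrrCharacter G)
      have h2 : ((⟨1, isIrr_one⟩ : IrrCharacter G) : G → ℂ) 1 = 1 := rfl
      rw [h2] at h1
      exact_mod_cast h1.symm
  have hn1 : D.n 1 = 1 := by
    unfold TitsArith.Data.n
    rw [Finset.card_eq_one]
    refine ⟨⟨1, isIrr_one⟩, ?_⟩
    ext χ
    simp only [Finset.mem_filter, Finset.mem_univ, true_and, Finset.mem_singleton, hDχ]
    exact hone χ
  obtain ⟨χ27, h27⟩ := h.d27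
  obtain ⟨χ675, h675⟩ := h.d675
  obtain ⟨χ78, h78⟩ := h.d78
  obtain ⟨χ1, χ2, hχ, hχ1, hχ2⟩ := h.d2048
  have h624 : 2 ≤ D.n 624 ∨ 1 ≤ D.n 1248 := by
    rcases h.d624 with ⟨ψ1, ψ2, hψ, hψ1, hψ2⟩ | ⟨ψ, hψ⟩
    · left
      exact D.two_le_n (by rw [hDχ, hψ1]) (by rw [hDχ, hψ2]) hψ
    · right
      exact D.n_pos (by rw [hDχ, hψ])
  have hmain := D.main (i1 := ⟨1, isIrr_one⟩) (i27 := χ27) (i675 := χ675) (j1 := χ1) (j2 := χ2) (i78 := χ78)
    (by rw [hDχ]; exact (hone _).2 rfl) hn1 (by rw [hDχ, h27]) (by rw [hDχ, h675]) (by rw [hDχ, hχ1])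
    (by rw [hDχ, hχ2]) hχ (by rw [hDχ, h78]) h624
  simp only [hn] at hmain
  obtain ⟨h0, hmain⟩ := hmain
  refine ⟨?_, hmain⟩
  rw [Nat.card_eq_fintype_card, Fintype.card_subtype, ← h0]
  simp only [hDχ]

end Cfsg.Agent.H757.TI

end
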