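import Mathlib
import Cfsg.Agent.H757.TI.TitsChar
import Cfsg.Agent.H740.Eight.Tits
import Cfsg.Agent.CpAutTits.Row
import Cfsg.Agent.H20.FrobTits
import Cfsg.Agent.H681.SimpleChar
import Cfsg.Agent.H845.CopTits
import Cfsg.Agent.H488.PBRow.TitsThree

/-!
# The Tits group has sixteen irreducible characters of degree not divisible by 25 (helper757, S4819, S4820)

`card_nondz` and the degrees `num_tits`.
-/

set_option autoImplicit false
set_option linter.unusedSectionVars false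

namespace Cfsg.Agent.H757.TI

open Cfsg Subgroup Cfsg.Agent.Characters.Core Cfsg.Agent.CpAutTits

universe u v

/-! ### the Sylow 5-subgroup -/

section

open Cfsg.Agent.Omega.TwoF.Tits Cfsg.Agent.Omega.TwoF.Scalar Cfsg.Agent.Omega.TwoF.Orb
  Cfsg.Agent.ChevalleyStructure.Tits.Main

theorem hyp_C {X : Type} [Group X] (e : C ≃* X)
    (hten : ∀ y : X, orderOf y = 5 → ∀ i, orderOf i = 2 → i * y = y * i →
      Nat.card ↥(centralizer ({y} : Set X) ⊓ centralizer ({i} : Set X)) = 10)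
    (hex : ∃ y i : X, orderOf y = 5 ∧ orderOf i = 2 ∧ i * y = y * i) : ∃ P : Subgroup C, Hyp P := by
  have h := Row.hyp_of_ten (G := C) e hten hex
  exact ⟨_, Fus.hyp h.1 h.2⟩

end

theorem exists_hyp_aux (K : Subgroup (Matrix.GeneralLinearGroup Cfsg.Agent.ChevalleyStructure.Tits.Mat.I52 (ZMod 2)))
    (hK : K = Cfsg.Agent.ChevalleyStructure.Tits.Order.H0)
    (e : Nonempty (↥(_root_.commutator K) ≃* ↥Cfsg.Agent.TitsK.TT)) :
    ∃ P : Subgroup (_root_.commutator K), Hyp P := by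
  subst hK
  obtain ⟨e⟩ := e
  have h := @hyp_C ↥Cfsg.Agent.TitsK.TT (Subgroup.toGroup Cfsg.Agent.TitsK.TT) e Ten.facts.ten
    ⟨Ten.facts.xT, Ten.facts.zT, Ten.facts.order_x, Ten.facts.order_z, Ten.facts.comm_zx⟩
  exact h

theorem exists_hyp : ∃ P : Subgroup Cfsg.Lie.TitsGroup, Hyp P :=
  exists_hyp_aux (Cfsg.Lie.twistedF4 (ZMod 2) 1) Cfsg.Agent.ChevalleyStructure.Tits.Main.T0_eq_H0
    Cfsg.Agent.TitsK.exists_equiv

section

variable {G : Type u} [Group G] [Finite G] {P : Subgroup G}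

theorem conj_vi (h : Hyp P) {v i : G} (hv : orderOf v = 5) (hi : orderOf i = 2) (hc : i * v = v * i) (k : ℕ)
    (hk : k < 5) (h0 : k ≠ 0) : IsConj (v * i) (v ^ k * i) := by
  have hvk : orderOf (v ^ k) = 5 := by
    rw [Nat.Coprime.orderOf_pow, hv]
    rw [hv]
    exact (Nat.Prime.coprime_iff_not_dvd (by norm_num)).2 fun hd => by
      have := Nat.le_of_dvd (Nat.pos_of_ne_zero h0) hd
      omega
  obtain ⟨g, hg⟩ := h.exists_conj hv hvk
  -- `v` is a power of `v ^ k`
  obtain ⟨l, hl⟩ : ∃ l : ℕ, (v ^ k) ^ l = v := by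
    have : ∃ l : ℕ, k * l % 5 = 1 := by
      interval_cases k
      · exact absurd rfl h0
      · exact ⟨1, rfl⟩
      · exact ⟨3, rfl⟩
      · exact ⟨2, rfl⟩
      · exact ⟨4, rfl⟩
    obtain ⟨l, hl⟩ := this
    exact ⟨l, by rw [← pow_mul, ← pow_mod_orderOf, hv, hl, pow_one]⟩
  have hi' : Commute (g * i * g⁻¹) (v ^ k) := by
    rw [← hg]
    show g * i * g⁻¹ * (g * v * g⁻¹) = g * v * g⁻¹ * (g * i * g⁻¹)
    calc g * i * g⁻¹ * (g * v * g⁻¹) = g * (i * v) * g⁻¹ := by group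
      _ = g * (v * i) * g⁻¹ := by rw [hc]
      _ = _ := by group
  have hi'' : Commute (g * i * g⁻¹) v := by
    have := hi'.pow_right l
    rwa [hl] at this
  have m1 : i ∈ centralizer ({v} : Set G) := mem_centralizer_singleton_iff.2 hc
  have m2 : g * i * g⁻¹ ∈ centralizer ({v} : Set G) := mem_centralizer_singleton_iff.2 hi''
  have ho : orderOf (⟨i, m1⟩ : centralizer ({v} : Set G)) = 2 := by rw [Subgroup.orderOf_mk, hi]
  have hz : Nat.card (zpowers (⟨i, m1⟩ : centralizer ({v} : Set G))) = 2 ^ 1 := by rw [Nat.card_zpowers, ho, pow_one]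
  have hidx : ¬ 2 ∣ (zpowers (⟨i, m1⟩ : centralizer ({v} : Set G))).index := by
    have h1 := (zpowers (⟨i, m1⟩ : centralizer ({v} : Set G))).card_mul_index
    rw [hz, h.card_cent hv] at h1
    omega
  obtain ⟨c, hcm⟩ := H20.FrobTits.exists_conj_mem (a := 1) (b := 1) Nat.prime_two hz hidx
    (y := (⟨g * i * g⁻¹, m2⟩ : centralizer ({v} : Set G))) (by
      apply Subtype.ext
      show (g * i * g⁻¹) ^ 2 ^ 1 = 1
      rw [pow_one, conj_pow, ← hi, pow_orderOf_eq_one]
      group)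
  have hcv : (c : G) * v = v * c := mem_centralizer_singleton_iff.1 c.2
  have he : (c : G) * (g * i * g⁻¹) * (c : G)⁻¹ = i := by
    obtain ⟨n, hn⟩ := mem_zpowers_iff.1 hcm
    have hn' : i ^ n = (c : G) * (g * i * g⁻¹) * (c : G)⁻¹ := congrArg Subtype.val hn
    have hi2 : i * i = 1 := by rw [← pow_two, ← hi, pow_orderOf_eq_one]
    rcases Int.even_or_odd' n with ⟨j, hj | hj⟩
    · exfalso
      rw [hj, zpow_mul, zpow_ofNat, pow_two, hi2, one_zpow] at hn'
      have h1 : i = 1 := by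
        have h2 := congrArg (fun x => g⁻¹ * ((c : G)⁻¹ * x * c) * g) hn'
        simp only [mul_assoc, inv_mul_cancel_left, inv_mul_cancel, mul_one] at h2
        simpa using h2.symm
      rw [h1, orderOf_one] at hi
      omega
    · rw [hj, zpow_add, zpow_mul, zpow_ofNat, pow_two, hi2, one_zpow, one_mul, zpow_one] at hn'
      exact hn'.symm
  refine isConj_iff.2 ⟨c * g, ?_⟩
  calc (c : G) * g * (v * i) * ((c : G) * g)⁻¹ = (c : G) * (g * v * g⁻¹) * (c : G)⁻¹ *
      ((c : G) * (g * i * g⁻¹) * (c : G)⁻¹) := by group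
    _ = (c : G) * v ^ k * (c : G)⁻¹ * i := by rw [hg, he]
    _ = v ^ k * i := by
      rw [(Commute.pow_right (show Commute (c : G) v from hcv) k).eq, mul_inv_cancel_right]

theorem card_cent_vi (h : Hyp P) {v i : G} (hv : orderOf v = 5) (hi : orderOf i = 2) (hc : i * v = v * i) :
    Nat.card (centralizer ({v * i} : Set G)) = 10 := by
  rw [← h.ten v hv i hi hc]
  have h6 : (v * i) ^ 6 = v := by
    rw [(show Commute v i from hc.symm).mul_pow, ← pow_mod_orderOf v, ← pow_mod_orderOf i, hv, hi]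
    norm_num
  have h5 : (v * i) ^ 5 = i := by
    rw [(show Commute v i from hc.symm).mul_pow, ← pow_mod_orderOf v, ← pow_mod_orderOf i, hv, hi]
    norm_num
  congr 1
  have : centralizer ({v * i} : Set G) = centralizer ({v} : Set G) ⊓ centralizer ({i} : Set G) := by
    ext x
    rw [mem_inf, mem_centralizer_singleton_iff, mem_centralizer_singleton_iff, mem_centralizer_singleton_iff]
    constructor
    · intro hx
      have h1 := (show Commute x (v * i) from hx).pow_right 6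
      have h2 := (show Commute x (v * i) from hx).pow_right 5
      rw [h6] at h1
      rw [h5] at h2
      exact ⟨h1, h2⟩
    · rintro ⟨h1, h2⟩
      exact (show Commute x v from h1).mul_right (show Commute x i from h2)
  rw [this]

end

/-! ### the data -/

section

variable {G : Type u} [Group G]

theorem order_x (D : H87.TitsAbs.Dat G) : orderOf D.x = 13 := by
  have : Fact (Nat.Prime 13) := ⟨by norm_num⟩
  exact orderOf_eq_prime D.x13 D.x1

variable [Finite G]

theorem real_x (hcard : Nat.card G = 17971200) (D : H87.TitsAbs.Dat G) (hr : ∃ y : G, orderOf y = 13 ∧ IsConj y y⁻¹) :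
    IsConj D.x D.x⁻¹ := by
  have hx := order_x D
  obtain ⟨y, hy, hreal⟩ := hr
  have hz : Nat.card (zpowers D.x) = 13 ^ 1 := by rw [Nat.card_zpowers, hx, pow_one]
  have hidx : ¬ 13 ∣ (zpowers D.x).index := by
    have h1 := (zpowers D.x).card_mul_index
    rw [hz, hcard] at h1
    omega
  obtain ⟨c, hc⟩ := H20.FrobTits.exists_conj_mem (a := 1) (b := 1) (by norm_num : Nat.Prime 13) hz hidx (y := y)
    (by rw [pow_one, ← hy, pow_orderOf_eq_one])
  obtain ⟨k, hk⟩ := (isOfFinOrder_of_finite D.x).mem_powers_iff_mem_zpowers.2 hc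
  have hk' : D.x ^ k = c * y * c⁻¹ := hk
  have hr : IsConj (D.x ^ k) (D.x ^ k)⁻¹ := by
    rw [hk']
    have h1 : IsConj (c * y * c⁻¹) y := (isConj_iff.2 ⟨c, rfl⟩).symm
    have h2 : IsConj y⁻¹ (c * y * c⁻¹)⁻¹ := isConj_iff.2 ⟨c, by group⟩
    exact (h1.trans hreal).trans h2
  have hk0 : k % 13 ≠ 0 := by
    intro h0
    have h1 : D.x ^ k = 1 := by rw [← pow_mod_orderOf, hx, h0, pow_zero]
    rw [h1] at hk'
    have h2 : y = 1 := by
      have h3 := congrArg (fun u => c⁻¹ * u * c) hk'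
      simpa [mul_assoc] using h3.symm
    rw [h2, orderOf_one] at hy
    omega
  obtain ⟨l, hl⟩ : ∃ l : ℕ, k * l % 13 = 1 := by
    have key : ∀ r : Fin 13, (r : ℕ) ≠ 0 → ∃ l : Fin 13, (r : ℕ) * l % 13 = 1 := by decide
    obtain ⟨l, hl⟩ := key ⟨k % 13, Nat.mod_lt _ (by norm_num)⟩ hk0
    refine ⟨l, ?_⟩
    rw [Nat.mul_mod, ← hl, Nat.mul_mod (k % 13)]
    simp
  have h3 := IsConj.pow l hr
  rwa [inv_pow, ← pow_mul, ← pow_mod_orderOf D.x (k * l), hx, hl, pow_one] at h3

theorem nonempty_tg_of (hs : IsSimpleGroup G) (hcard : Nat.card G = 17971200) (D : H87.TitsAbs.Dat G) {P : Subgroup G}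
    (hP : Hyp P) (hr : ∃ y : G, orderOf y = 13 ∧ IsConj y y⁻¹) (hcx : Nat.card (centralizer ({D.x} : Set G)) = 13)
    (hct : ∀ y : G, orderOf y = 3 → Nat.card (centralizer ({y} : Set G)) = 108) : Nonempty (TG G) := by
  have hx := order_x D
  -- an element of order 5
  obtain ⟨v, hvP, hv1⟩ : ∃ v ∈ P, v ≠ 1 := by
    by_contra hcon
    push Not at hcon
    have h1 : P = ⊥ := (Subgroup.eq_bot_iff_forall P).2 hcon
    have h2 := hP.cardP
    rw [h1, Subgroup.card_bot] at h2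
    omega
  have hv : orderOf v = 5 := by
    have : Fact (Nat.Prime 5) := ⟨by norm_num⟩
    exact orderOf_eq_prime (hP.exp v hvP) hv1
  obtain ⟨i, hi, hiv⟩ := hP.exists_inv hv
  have ht : orderOf D.t = 3 := by
    have : Fact (Nat.Prime 3) := ⟨by norm_num⟩
    exact orderOf_eq_prime D.t3 D.t1
  have hna : ¬ ∀ a b : G, a * b = b * a := by
    intro h
    have h1 : centralizer ({D.x} : Set G) = ⊤ := by
      rw [eq_top_iff]
      intro y _
      exact mem_centralizer_singleton_iff.2 (h y D.x)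
    rw [h1, card_top, hcard] at hcx
    omega
  exact ⟨{
    card := hcard
    lin := fun χ hχ h1 => H681.SimpleChar.eq_one_of_degree_one hna hχ h1
    P := P
    cardP := hP.cardP
    v := v
    v5 := hv
    vP := hvP
    conjP := fun a ha ha1 => by
      obtain ⟨g, -, hg⟩ := hP.fus v hvP hv1 a ha ha1
      exact isConj_iff.2 ⟨g, hg⟩
    centv := hP.card_cent hv
    R := D.R
    cardR := D.card_R
    t := D.t
    t3 := ht
    conjR := fun a ha ha1 => (D.R_isConj ha ha1).symm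
    centt := hct D.t ht
    g := D.x
    g13 := hx
    real := real_x hcard D hr
    cube := isConj_iff.2 ⟨D.t, D.txt⟩
    centg := hcx
    i := i
    i2 := by rw [← pow_two, ← hi, pow_orderOf_eq_one]
    i1 := by
      rintro rfl
      rw [orderOf_one] at hi
      omega
    comm := hiv.symm
    conjv := fun k hk h0 => conj_vi hP hv hi hiv k hk h0
    centvi := card_cent_vi hP hv hi hiv }⟩

end

theorem tits_iso : Cfsg.Lie.IsoTits Cfsg.Lie.TitsGroup := ⟨MulEquiv.refl _⟩

theorem finite_tits : Finite Cfsg.Lie.TitsGroup := by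
  apply Nat.finite_of_card_ne_zero
  rw [Cfsg.Agent.NotCT.Orders.tits tits_iso]
  norm_num

theorem nonempty_tg : Nonempty (TG Cfsg.Lie.TitsGroup) := by
  have := finite_tits
  obtain ⟨D⟩ := H87.TitsData.dat_tits
  obtain ⟨P, hP⟩ := exists_hyp
  exact nonempty_tg_of (G := Cfsg.Lie.TitsGroup) Cfsg.Agent.S1074.result.2.1 (Cfsg.Agent.NotCT.Orders.tits tits_iso) D hP
    (Cfsg.Agent.H661.Spor.hasReal_tits tits_iso).isConj (H845.CopTits.card_cent_x tits_iso D)
    fun y hy => H488.PBRow.TitsThree.card_cent_three tits_iso hy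

/-! ### the degrees -/

theorem ne_39 {G : Type u} [Group G] [Finite G] (T : TG G) (χ : IrrCharacter G) : charDegree (χ : G → ℂ) ≠ 39 := by
  intro h
  have := finite_irr (G := G)
  have := Fintype.ofFinite (IrrCharacter G)
  have hX := fun χ : IrrCharacter G => val_of_sub T.P T.cardP (by norm_num) T.conjP (isIrr_isCharacter χ.2)
    (TG.charDegree_eq χ)
  choose z m hz hz' using hX
  have h1 := orth_int_self hz
  rw [T.centv] at h1
  have h2 := Finset.single_le_sum (f := fun χ => z χ ^ 2) (fun _ _ => sq_nonneg _) (Finset.mem_univ χ)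
  rw [h1] at h2
  have h3 := hz' χ
  rw [h] at h3
  push_cast at h2 h3
  have h4 : z χ ≤ 7 := by nlinarith
  have h5 : -7 ≤ z χ := by nlinarith
  omega

theorem mem_4096 : 4096 ∈ charDegrees ↥(Cfsg.Lie.twistedF4 (ZMod 2) 1) := by
  have : Fact (Nat.Prime 2) := ⟨Nat.prime_two⟩
  obtain ⟨hidx, -, -, hcard⟩ := Cfsg.Agent.S1074.result
  have h0 : FixBN.HasSplit 2 ↥(Cfsg.Lie.twistedF4 (ZMod 2) 1) :=
    H794.TitsPP.hasSplit (K := ZMod 2) (m := 0) (by simp)
  obtain ⟨χ, hχ, h1⟩ := Cfsg.Agent.H163.Steinberg.exists_irr_of_hasSplit h0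
  obtain ⟨h2, -⟩ := h1 default
  have hcard' : Nat.card ↥(Cfsg.Lie.twistedF4 (ZMod 2) 1) = 2 ^ 12 * (3 ^ 3 * 5 ^ 2 * 13) := by
    rw [← Subgroup.card_mul_index (commutator ↥(Cfsg.Lie.twistedF4 (ZMod 2) 1)), hidx]
    have h3 : Nat.card (commutator ↥(Cfsg.Lie.twistedF4 (ZMod 2) 1)) = 2 ^ 11 * 3 ^ 3 * 5 ^ 2 * 13 := hcard
    rw [h3]
    norm_num
  have hQ : Nat.card (default : Sylow 2 ↥(Cfsg.Lie.twistedF4 (ZMod 2) 1)) = 2 ^ 12 := by
    rw [Sylow.card_eq_multiplicity, hcard', Nat.factorization_mul (by norm_num) (by norm_num), Finsupp.add_apply,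
      Nat.prime_two.factorization_pow, Finsupp.single_eq_same,
      Nat.factorization_eq_zero_of_not_dvd (by norm_num), add_zero]
  rw [hQ] at h2
  have e : (4096 : ℕ) = 2 ^ 12 := by norm_num
  rw [e]
  exact ⟨⟨χ, hχ⟩, Blocks.Basic.charDegree_of_eq h2⟩

theorem pair {A : Type u} [Group A] [Finite A] (K : Subgroup A) [K.Normal] (hidx : K.index = 2) {d : ℕ}
    (h : d ∈ charDegrees A) : (∃ θ : IrrCharacter K, charDegree (θ : K → ℂ) = d) ∨
      ∃ (θ₁ θ₂ : IrrCharacter K) (c : ℕ), θ₁ ≠ θ₂ ∧ charDegree (θ₁ : K → ℂ) = c ∧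
        charDegree (θ₂ : K → ℂ) = c ∧ 2 * c = d := by
  obtain ⟨χ, hχ, h1⟩ := H424.DegTools.mem_charDegrees.1 h
  rcases pair_of_index_two K hidx hχ h1 with ⟨θ, hθ⟩ | ⟨θ₁, θ₂, c, hne, h2, h3, h4⟩
  · exact Or.inl ⟨θ, Blocks.Basic.charDegree_of_eq hθ⟩
  · exact Or.inr ⟨θ₁, θ₂, c, hne, Blocks.Basic.charDegree_of_eq h2, Blocks.Basic.charDegree_of_eq h3, h4⟩

theorem degs_of {A : Type u} [Group A] [Finite A] (K : Subgroup A) [K.Normal] (hidx : K.index = 2) (T : TG K)
    (d27 : 27 ∈ charDegrees K) (d675 : 675 ∈ charDegrees A) (d78 : 78 ∈ charDegrees A) (d1248 : 1248 ∈ charDegrees A)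
    (d4096 : 4096 ∈ charDegrees A) : Degs K := by
  have hdvd : ∀ χ : IrrCharacter K, charDegree (χ : K → ℂ) ∣ Nat.card K := fun χ => H424.DegTools.dvd_card ⟨χ, rfl⟩
  refine ⟨hdvd, d27, ?_, ?_, ?_, ?_⟩
  · rcases pair K hidx d675 with h | ⟨-, -, c, -, -, -, h⟩
    · exact h
    · omega
  · rcases pair K hidx d78 with h | ⟨θ, -, c, -, h1, -, h⟩
    · exact h
    · exact absurd (by rw [h1]; omega) (ne_39 T θ)
  · rcases pair K hidx d4096 with ⟨θ, h⟩ | ⟨θ₁, θ₂, c, hne, h1, h2, h⟩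
    · have h1 := hdvd θ
      rw [h, T.card] at h1
      norm_num at h1
    · exact ⟨θ₁, θ₂, hne, by omega, by omega⟩
  · rcases pair K hidx d1248 with h | ⟨θ₁, θ₂, c, hne, h1, h2, h⟩
    · exact Or.inr h
    · exact Or.inl ⟨θ₁, θ₂, hne, by omega, by omega⟩

theorem finite_F4 : Finite ↥(Cfsg.Lie.twistedF4 (ZMod 2) 1) := by
  obtain ⟨hidx, -, -, hcard⟩ := Cfsg.Agent.S1074.result
  refine Nat.finite_of_card_ne_zero ?_
  rw [← Subgroup.card_mul_index (commutator ↥(Cfsg.Lie.twistedF4 (ZMod 2) 1)), hidx]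
  have h3 : Nat.card (commutator ↥(Cfsg.Lie.twistedF4 (ZMod 2) 1)) = 2 ^ 11 * 3 ^ 3 * 5 ^ 2 * 13 := hcard
  rw [h3]
  norm_num

theorem degs_tits : Degs Cfsg.Lie.TitsGroup := by
  have := finite_F4
  obtain ⟨T⟩ := nonempty_tg
  obtain ⟨-, -, d675, d1248, d78⟩ := H740.Eight.Tits.degs
  exact degs_of (commutator ↥(Cfsg.Lie.twistedF4 (ZMod 2) 1)) Cfsg.Agent.S1074.result.1 T
    (H740.Eight.Tits.mem_27 tits_iso) d675 d78 d1248 mem_4096

/-- transport of irreducible characters -/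
def pull {G : Type u} {H : Type v} [Group G] [Group H] (e : G ≃* H) : IrrCharacter H ≃ IrrCharacter G where
  toFun χ := ⟨(χ : H → ℂ) ∘ e.toMonoidHom, isIrr_comp e.toMonoidHom e.surjective χ.2⟩
  invFun χ := ⟨(χ : G → ℂ) ∘ e.symm.toMonoidHom, isIrr_comp e.symm.toMonoidHom e.symm.surjective χ.2⟩
  left_inv χ := by
    apply Subtype.ext
    funext h
    show (χ : H → ℂ) (e (e.symm h)) = _
    rw [e.apply_symm_apply]
  right_inv χ := by
    apply Subtype.ext
    funext h
    show (χ : G → ℂ) (e.symm (e h)) = _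
    rw [e.symm_apply_apply]

theorem charDegree_pull {G : Type u} {H : Type v} [Group G] [Group H] (e : G ≃* H) (χ : IrrCharacter H) :
    charDegree ((pull e χ : IrrCharacter G) : G → ℂ) = charDegree (χ : H → ℂ) := by
  show charDegree ((χ : H → ℂ) ∘ e.toMonoidHom) = _
  unfold charDegree
  rw [Function.comp_apply, map_one]

theorem card_pull {G : Type u} {H : Type v} [Group G] [Group H] (e : G ≃* H) (p : ℕ → Prop) :
    Nat.card {χ : IrrCharacter G // p (charDegree (χ : G → ℂ))} =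
      Nat.card {χ : IrrCharacter H // p (charDegree (χ : H → ℂ))} := by
  symm
  refine Nat.card_congr (Equiv.subtypeEquiv (pull e) fun χ => ?_)
  rw [charDegree_pull]

theorem final_of {S : Type u} {X : Type v} [Group S] [Group X] [Finite X] (e : S ≃* X) (T : TG X) (h : Degs X) :
    Nat.card {χ : IrrCharacter S // ¬ 25 ∣ charDegree (χ : S → ℂ)} = 16 ∧ num S 26 = 2 ∧ num S 27 = 2 ∧
      num S 78 = 1 ∧ num S 351 = 3 ∧ num S 624 = 2 ∧ num S 702 = 2 ∧ num S 1728 = 1 ∧ num S 2048 = 2 := by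
  have key : ∀ d : ℕ, num S d = num X d := fun d => card_pull e fun c => c = d
  simp only [key]
  rw [card_pull e fun d => ¬ 25 ∣ d]
  exact count T h

/-- The degrees which are not divisible by 25 are `1, 26², 27², 78, 351³, 624², 702², 1728, 2048²`. -/
theorem num_tits {T : Type u} [Group T] (h : Cfsg.Lie.IsoTits T) :
    Nat.card {χ : IrrCharacter T // ¬ 25 ∣ charDegree (χ : T → ℂ)} = 16 ∧ num T 26 = 2 ∧ num T 27 = 2 ∧
      num T 78 = 1 ∧ num T 351 = 3 ∧ num T 624 = 2 ∧ num T 702 = 2 ∧ num T 1728 = 1 ∧ num T 2048 = 2 := by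
  have := finite_tits
  obtain ⟨e⟩ := h
  obtain ⟨X⟩ := nonempty_tg
  exact final_of (X := Cfsg.Lie.TitsGroup) e X degs_tits

/-- **The Tits group has sixteen irreducible characters of degree not divisible by 25.** -/
theorem card_nondz {T : Type u} [Group T] (h : Cfsg.Lie.IsoTits T) :
    Nat.card {χ : IrrCharacter T // ¬ 25 ∣ charDegree (χ : T → ℂ)} = 16 := (num_tits h).1

end Cfsg.Agent.H757.TI
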